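import Cfsg.Agent.H669.Dl.HN_m3
import Cfsg.Agent.H53.HC.TwoTwE6
import Cfsg.Agent.H967.Sph.Oper_m3
import Cfsg.Agent.ChevalleyStructure.CoxeterGeomTypes
import Cfsg.Agent.H710.R4.Sph_m3
import Cfsg.Agent.FixBN.SplitRGD
import Cfsg.Agent.H163.Steinberg
import Cfsg.Agent.H759.Dl.Small
import Cfsg.Agent.H158.DlRows_m3
import Cfsg.Agent.H600.AltIM_m3
import Cfsg.Agent.H717.Two.SevenEight_m3
import Cfsg.Agent.Lib.FinFast
import Cfsg.Agent.H53.Two.FactTwo
import Cfsg.Agent.H669.Dl.A12_m3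
import Cfsg.Agent.H678.DG.Tits_m3
import Cfsg.Agent.H603.FD.TitsRow
import Cfsg.Agent.H362.Dl.SixtyFour
import Cfsg.Agent.H492.IMPair_m3
import Cfsg.Agent.H724.IMJThree
import Cfsg.Agent.H417.JThreeCols
import Cfsg.Agent.S2067
import Cfsg.Agent.H852.IMHS
import Cfsg.Agent.H771.KTools_m3
import Cfsg.Agent.H904.HSIso
import Cfsg.Agent.S2072
import Cfsg.Agent.H852.IMMcL
import Cfsg.Agent.H868.Dl.Ly
import Cfsg.Agent.H755.Dl.Lin
import Cfsg.Agent.H990.CC.HSMcL
import Cfsg.Agent.H620.ONVan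
import Cfsg.Agent.H680.ONThirtyOne_m3
import Cfsg.Agent.CpAut.SporThree.ON
import Cfsg.Agent.H868.Dl.RuCls
import Cfsg.Agent.H877.BSgnDeg
import Cfsg.Agent.H723.Pair.BChar
import Cfsg.Agent.Blocks.ExistsModular
import Cfsg.Agent.S2084
import Cfsg.Agent.H567.Dl.Mathieu
import Cfsg.Agent.H669.Dl.Th
import Cfsg.Agent.H633.Dl.Co1
import Cfsg.Agent.H633.Dl.Co2
import Cfsg.Agent.H153.Dl.RowFi24
import Cfsg.Agent.S0000
import Cfsg.Agent.H33.IMRest
import Cfsg.Agent.FastGrp
import Cfsg.Agent.Prune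
set_option linter.all false

section
prune_inst 0x7ffdfefcbfa9f9dfdfff7e3ffef9dffc33c6cfffefdffb43ffe8ef9f8f9f83163bcdfba71de0d0fe0ef6e23c10b87853fb7eeeffe06bdc7ffffd5ff41ffbee0ff5f7350971dd9cb40f380fff03f16fc86f3fffffffffffffffffffffffffffbeffffffffffff

-- part: H64/Dl/ESix_mg
section
prune_inst 0x4000000000000000000000100001000000000030020000010210000000000000001800104c020000000000001000c00000000000000000000000000008000000000000000000002002000000000000000000000000000000041000000000000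
set_option linter.all false
open scoped Cfsg.Agent.FastGrp

-- part: H64/Dl/ESix
section
/-!
# Three inequivalent characters for `E₆(q)`, `p ∣ q ^ 2 - 1` (helper64, the last hole of S4769)

`J` = all nodes but the third one, `K` the component of type `A₄`, `j₀` the component of type `A₁`: no element of
`W ∖ W_J` permutes the simple roots of `J`, so `θ ⊗ 1`, `θ ⊗ St`, `θ ⊗ θ'` give irreducible characters.

* `many_E6_cross` : `Many p S 3` for every prime `p ∣ q ^ 2 - 1`.
-/

set_option autoImplicit false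
set_option linter.unusedSectionVars false

open scoped ComplexConjugate
open Cfsg

namespace Cfsg.Agent.H64.Dl

open Cfsg.Agent.OddOrderCharacters.Clifford Cfsg.Agent.Characters Cfsg.Agent.H53.HC Cfsg.Agent.H717.Two
  Cfsg.Agent.H246.Dl Cfsg.Agent.H35.ExcIdx Cfsg.Agent.H53.HC.ExcRows Cfsg.Agent.H53.HC.ExcIM
open CoxeterSystem Cfsg.Agent.ChevalleyStructure.CoxeterGeom Cfsg.Agent.Tits.Roots Cfsg.Agent.Tits.Core
  Cfsg.Agent.Tits.Exchange Cfsg.Agent.Nodes.Reps Cfsg.Agent.Nodes.BNOf Cfsg.Agent.Nodes.StabComb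
  Cfsg.Agent.Nodes.Bruhat Cfsg.Agent.Nodes.OppDec Cfsg.Agent.Nodes.LeviDec

section gen

variable {I W Y : Type*} [Fintype I] [DecidableEq I] [Group W] [Group Y] {M : CoxeterMatrix I}
  {cs : CoxeterSystem M W} {A : I → I → ℤ} {h : IsCartan M A} {p : ℕ} {T : Subgroup Y} {n : I → Y}
  {X : (I → ℤ) → Subgroup Y}

variable (R : RGD cs h p T n X)

include R

/-- the character from `φ ⊗ ρ` on `J = K ∪ {j₀}`, no element of `W ∖ W_J` permuting the simple roots of `J` -/
theorem exists_irr_free_partial [Finite W] [Fintype Y] (hG : GG cs h T X = ⊤) {K : Set I} {j₀ : I}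
    (hno : ∀ w : W, w ∉ WJ cs (K ∪ {j₀}) → ¬ Perm cs h (K ∪ {j₀}) w) (ho : Orth A K {j₀})
    (hC : Comb cs h (K ∪ {j₀}) K) {φ : ↥(MJ cs h X K) → ℂ} (hφ : Cusp cs h X K φ)
    {ρ : ↥(MJ cs h X {j₀}) → ℂ} (hρ : IsIrrCharacter _ ρ)
    (hρz : ∀ z ∈ Subgroup.center ↥(MJ cs h X {j₀}), ρ z = ρ 1)
    (hρs : ∀ [Fintype (UJ cs h X {j₀})], ∑ u : UJ cs h X {j₀}, ρ ⟨u, (RGD.Sup_mono fun _ hx => PosJ_subset {j₀} hx :
      UJ cs h X {j₀} ≤ MJ cs h X {j₀}) u.2⟩ ≠ 0) :
    ∃ χ : Y → ℂ, IsIrrCharacter Y χ ∧ HasFix χ (VJ cs h X K) ∧ ∃ k : ℕ, 0 < k ∧ k ∣ Nat.card T ∧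
      χ 1 = (PJ cs h T X (K ∪ {j₀})).index * (k * (φ 1 * ρ 1)) := by
  obtain ⟨ψ, hψ, hψv, hψval⟩ := exists_prod_left R ho hφ hρ hρz
  have hψ1 : ψ 1 = φ 1 * ρ 1 := by
    obtain ⟨hab, e⟩ := hψval 1 (one_mem _) 1 (one_mem _)
    simp only [mul_one] at e
    exact e
  rw [← hψ1]
  obtain ⟨χ, hχ, hd, ψ', hψ', he, hV, c, s, hres, hs⟩ :=
    exists_irr_partial' R hG (K := K) (fun i hi => Or.inl hi) hC hψ hψv
      (fun w g hg hw hp => absurd hp (hno w hw))
  exact ⟨χ, hχ, hasFix_partial R ho hφ.irr hρs hψval hχ hψ' he hV hres hs, hd⟩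

end gen

variable {r q l : ℕ} {M : CoxeterMatrix (Fin l)} {A : Fin l → Fin l → ℤ} {h : IsCartan M A} {f : Fin l → ℕ}
  {S : Type*} [Group S] {T : Subgroup S} {n : Fin l → S} {X : (Fin l → ℤ) → Subgroup S}

/-- **Three inequivalent characters**, no element of `W ∖ W_J` permuting the simple roots of `J = K ∪ {j₀}`. -/
theorem many_free [Finite S] (hr : r.Prime) (hrq : r ∣ q) {j₀ i₀ : Fin l} {K J' : Set (Fin l)}
    (D : ExcData r q h f J' T n X) (hj₀' : j₀ ∉ K) (ho' : ∀ i ∈ K, M i j₀ = 2) (hj₀ : M j₀ i₀ = 3) (hf : f j₀ = q)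
    (hC : Comb M.toCoxeterSystem h (K ∪ {j₀}) K)
    (hno : ∀ w : M.Group, w ∉ WJ M.toCoxeterSystem (K ∪ {j₀}) → ¬ Perm M.toCoxeterSystem h (K ∪ {j₀}) w)
    {θ : ↥(MJ M.toCoxeterSystem h X K) → ℂ} (hθ : Cusp M.toCoxeterSystem h X K θ) {e p : ℕ} (he : θ 1 = e)
    (hpe : p ∣ e) (hj : In h X {j₀}) : Many p S 3 := by
  classical
  have := D.fin
  have : Fact r.Prime := ⟨hr⟩
  have : Fintype S := Fintype.ofFinite S
  obtain ⟨θ', hθ'⟩ := hj
  obtain ⟨e', he0', he'⟩ := Core.isIrr_apply_one hθ'.irr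
  obtain ⟨ρ, hρ, hρz, hρ1, hρs⟩ := st_node' D.rgd j₀ i₀ hj₀ ((D.size j₀).trans hf)
  have ho2 : Orth A K {j₀} := orth_of h fun i hi j' hj' => by
    have : j' = j₀ := hj'
    rw [this]
    exact ho' i hi
  obtain ⟨χ, hχ, hχf, k, hk, hkT, hχ1⟩ := exists_irr_free_partial D.rgd D.gg hno ho2 hC hθ (ρ := 1)
    Core.isIrr_one (fun z _ => rfl) (by
      intro hfu
      simp only [Pi.one_apply, Finset.sum_const, nsmul_eq_mul, mul_one]
      exact_mod_cast Finset.card_ne_zero.2 ⟨1, Finset.mem_univ _⟩)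
  obtain ⟨χ', hχ', hχf', k', hk', hkT', hχ1'⟩ := exists_irr_free_partial D.rgd D.gg hno ho2 hC hθ hρ hρz hρs
  obtain ⟨ψ, hψ, hval⟩ := hθ.exists_prod D.rgd ho2 hθ'
  have hψ1 : ψ 1 = θ 1 * θ' 1 := by
    obtain ⟨hab, e⟩ := hval 1 (one_mem _) 1 (one_mem _)
    simp only [mul_one] at e
    exact e
  obtain ⟨χ'', hχ'', k'', hk'', hχ1''⟩ := exists_HT_MJ D.rgd D.gg (K ∪ {j₀}) hψ.irr hψ.van
    (fun w g hg hw hp => absurd hp (hno w hw))
  obtain ⟨P, hP⟩ : ∃ P : ℕ, P = (PJ M.toCoxeterSystem h T X (K ∪ {j₀})).index := ⟨_, rfl⟩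
  have hP0 : 0 < P := by
    rw [hP]
    exact Nat.pos_of_ne_zero Subgroup.index_ne_zero_of_finite
  have he0 : 0 < e := by
    refine Nat.pos_of_ne_zero ?_
    rintro rfl
    exact Core.isIrr_apply_one_ne_zero hθ.irr (by rw [he, Nat.cast_zero])
  have e1 : χ 1 = (P * (k * e) : ℕ) := by rw [hχ1, hP, he, Pi.one_apply]; push_cast; ring
  have e2 : χ' 1 = (P * (k' * e) * q : ℕ) := by rw [hχ1', hP, he, hρ1]; push_cast; ring
  have e3 : χ'' 1 = (P * (k'' * (e * e')) : ℕ) := by rw [hχ1'', hψ1, hP, he, he']; push_cast; ring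
  have hne : P * (k * e) ≠ P * (k' * e) * q := by
    intro heq
    have h1 : P * e * k = P * e * (k' * q) := by
      calc P * e * k = P * (k * e) := by ring
        _ = P * (k' * e) * q := heq
        _ = P * e * (k' * q) := by ring
    have h2 : k = k' * q := Nat.eq_of_mul_eq_mul_left (Nat.mul_pos hP0 he0) h1
    apply not_dvd_T D.rgd D.gg
    refine Dvd.dvd.trans ?_ hkT
    rw [h2]
    exact Dvd.dvd.mul_left hrq _
  have c1 := H670.PSing.charDegree_eq_of e1
  have c2 := H670.PSing.charDegree_eq_of e2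
  have c3 := H670.PSing.charDegree_eq_of e3
  have hlt : K.ncard < (K ∪ {j₀} : Set (Fin l)).ncard := by
    refine Set.ncard_lt_ncard ?_ (Set.toFinite _)
    exact ⟨Set.subset_union_left, fun hcon => hj₀' (hcon (Or.inr rfl))⟩
  have n01 : ∀ σ : S ≃* S, ∃ g, χ (σ g) ≠ χ' g := fun σ => ⟨1, by
    rw [map_one, e1, e2]
    exact_mod_cast hne⟩
  have n20 := ht_ne_fix D.rgd D.gg hχ'' hχf hlt
  have n21 := ht_ne_fix D.rgd D.gg hχ'' hχf' hlt
  refine ⟨![⟨χ, hχ⟩, ⟨χ', hχ'⟩, ⟨χ'', hχ''.irr⟩], ?_, ?_⟩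
  · intro i
    fin_cases i
    · show p ∣ charDegree χ
      rw [c1]; exact Dvd.dvd.mul_left (Dvd.dvd.mul_left hpe _) _
    · show p ∣ charDegree χ'
      rw [c2]; exact Dvd.dvd.mul_right (Dvd.dvd.mul_left (Dvd.dvd.mul_left hpe _) _) _
    · show p ∣ charDegree χ''
      rw [c3]; exact Dvd.dvd.mul_left (Dvd.dvd.mul_left (Dvd.dvd.mul_right hpe _) _) _
  · intro i j hij σ
    fin_cases i <;> fin_cases j
    · exact absurd rfl hij
    · exact n01 σ
    · exact ne_aut_symm n20 σ
    · exact ne_aut_symm n01 σ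
    · exact absurd rfl hij
    · exact ne_aut_symm n21 σ
    · exact n20 σ
    · exact n21 σ
    · exact absurd rfl hij

/-! ### `E₆` -/

/-- the Cartan matrix of `E₆` -/
def a6 (i j : Fin 6) : ℤ := if i = j then 2 else if m6 i j = 3 then -1 else 0

theorem sl6 : ∀ i j, i ≠ j → m6 i j = 2 ∨ m6 i j = 3 := by decide +kernel

theorem a6_eq : a6 = ![![2, 0, -1, 0, 0, 0], ![0, 2, 0, -1, 0, 0], ![-1, 0, 2, -1, 0, 0],
    ![0, -1, -1, 2, -1, 0], ![0, 0, 0, -1, 2, -1], ![0, 0, 0, 0, -1, 2]] := by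
  decide +kernel

theorem pairing6 {A : Fin 6 → Fin 6 → ℤ} (h : IsCartan CoxeterMatrix.E₆ A) (i : Fin 6) (x : Fin 6 → ℤ) :
    pairing A i x = ∑ k, a6 i k * x k := by
  unfold pairing
  refine Finset.sum_congr rfl fun k _ => ?_
  rw [cartan_eq h sl6 i k]
  rfl

theorem aux6 {t s : ℤ} (h : 5 * t * (10 * t - s - 6 * t) + s * (2 * s - 5 * t) = 2) (hs : 0 ≤ s) :
    t = 0 ∧ s = 1 := by
  have h1 : (2 * s - 5 * t) ^ 2 + 15 * t ^ 2 = 4 := by linear_combination 2 * h
  have h2 : t = 0 := by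
    by_contra hne
    have h5 : 1 ≤ t ^ 2 := by
      have := sq_nonneg t
      have h6 : t ^ 2 ≠ 0 := pow_ne_zero 2 hne
      omega
    linarith only [h, h5, sq_nonneg (2 * s - 5 * t)]
  subst h2
  refine ⟨rfl, ?_⟩
  nlinarith only [hs, h]

/-- the roots orthogonal to the component of type `A₄` -/
theorem perp6 {W : Type*} [Group W] [Fintype W] {cs : CoxeterSystem CoxeterMatrix.E₆ W} {A : Fin 6 → Fin 6 → ℤ}
    {h : IsCartan CoxeterMatrix.E₆ A} {K : Set (Fin 6)} (hK : ∀ i, i ≠ 2 → i ≠ 0 → i ∈ K) (x : Fin 6 → ℤ)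
    (hx : ∀ i ∈ K, pairing A i x = 0) (h0 : 0 ≤ x) (hf : form cs h x x = form cs h (sr 0) (sr 0)) : x = sr 0 := by
  have h1 := form_self_of_two (cs := cs) (h := h) (x := x) (j := 2) (j₀ := 0) (by decide) fun i hi hi' => hx i (hK i hi hi')
  have hn : form cs h (sr 2) (sr 2) = form cs h (sr 0) (sr 0) := form_eq_of_three (by decide +kernel)
  have hpos : 0 < form cs h (sr 0) (sr 0) := form_pos cs h (sr_ne_zero (0 : Fin 6))
  rw [hf, hn] at h1
  have h2 : x 2 * pairing A 2 x + x 0 * pairing A 0 x = 2 := by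
    have : form cs h (sr 0) (sr 0) * (x 2 * pairing A 2 x + x 0 * pairing A 0 x) =
      form cs h (sr 0) (sr 0) * 2 := by linarith only [h1]
    exact mul_left_cancel₀ hpos.ne' this
  have e1 := hx 1 (hK 1 (by decide) (by decide))
  have e3 := hx 3 (hK 3 (by decide) (by decide))
  have e4 := hx 4 (hK 4 (by decide) (by decide))
  have e5 := hx 5 (hK 5 (by decide) (by decide))
  rw [pairing6 h, a6_eq] at e1 e3 e4 e5
  rw [pairing6 h, pairing6 h, a6_eq] at h2
  simp only [Fin.sum_univ_six, Matrix.cons_val] at e1 e3 e4 e5 h2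
  obtain ⟨t, ht⟩ : ∃ t, x 1 = 3 * t ∧ x 5 = 2 * t := ⟨x 1 - x 5, by omega, by omega⟩
  obtain ⟨ht1, ht5⟩ := ht
  have f2 : x 2 = 5 * t := by (clear * - e1 e3 e4 e5 ht1; omega)
  have f3 : x 3 = 6 * t := by (clear * - e1 ht1; omega)
  have f4 : x 4 = 4 * t := by omega
  obtain ⟨h4, h5⟩ := aux6 (t := t) (s := x 0) (by rw [f2, f3] at h2; linear_combination h2) (h0 0)
  subst h4
  refine funext fun i => ?_
  fin_cases i
  · exact h5
  · exact ht1
  · exact f2
  · exact f3
  · exact f4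
  · exact ht5

/-- the component of type `A₄` -/
def k6 : Fin 4 ↪ Fin 6 := ⟨![1, 3, 4, 5], by decide⟩

theorem hk6 : ∀ i j, m6 (k6 i) (k6 j) = ExcRows.mA 4 i j := by decide +kernel

theorem mem6 (i : Fin 6) : i ∈ Set.range k6 ↔ i ≠ 2 ∧ i ≠ 0 := by
  constructor
  · rintro ⟨a, rfl⟩
    revert a; decide
  · intro hi
    have : ∀ i : Fin 6, i ≠ 2 ∧ i ≠ 0 → ∃ a, k6 a = i := by decide
    exact this i hi

theorem compl6 : ({i | i ≠ 2} : Set (Fin 6)) = Set.range k6 ∪ {0} := by
  ext i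
  rw [Set.mem_union, mem6]
  simp only [Set.mem_ofPred_eq, Set.mem_singleton_iff]
  revert i; decide

theorem or60 : ∀ i : Fin 6, i ≠ 2 → i ≠ 0 → m6 i 0 = 2 := by decide +kernel
theorem nb6 : ∀ i : Fin 6, i ≠ 2 → i ≠ 0 → ∃ i', i' ≠ 2 ∧ i' ≠ 0 ∧ m6 i i' = 3 := by decide +kernel

theorem comb6 {A : Fin 6 → Fin 6 → ℤ} {h : IsCartan CoxeterMatrix.E₆ A} [Finite CoxeterMatrix.E₆.Group] :
    Comb CoxeterMatrix.E₆.toCoxeterSystem h (Set.range k6 ∪ {0}) (Set.range k6) := by
  have := Fintype.ofFinite CoxeterMatrix.E₆.Group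
  refine comb_of rfl (orth_of h fun i hi j hj => ?_) (exists_nb h fun i hi => ?_)
    fun x hx h0 hf => perp6 (fun i h3 h1 => (mem6 i).2 ⟨h3, h1⟩) x hx h0 hf
  · have : j = 0 := hj
    rw [this]
    exact or60 i ((mem6 i).1 hi).1 ((mem6 i).1 hi).2
  · obtain ⟨i', h3, h1, hM⟩ := nb6 i ((mem6 i).1 hi).1 ((mem6 i).1 hi).2
    exact ⟨i', (mem6 i').2 ⟨h3, h1⟩, hM⟩

/-- three times a fundamental weight -/
def u6 : Fin 6 → ℤ := ![4, 3, 5, 6, 4, 2]

theorem pairing_u6 {A : Fin 6 → Fin 6 → ℤ} (h : IsCartan CoxeterMatrix.E₆ A) (i : Fin 6) :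
    (3 : ℤ) ∣ pairing A i u6 := by
  rw [pairing6 h, a6_eq]
  revert i
  decide +kernel

theorem dvd_aux {p q e t : ℕ} (hp : p.Prime) (hpq : p ∣ q ^ 2 - 1)
    (he : e * t = ∏ i ∈ Finset.range 4, (q ^ (i + 1) - 1)) (ht : t ∣ Nat.gcd 5 (q - 1)) : p ∣ e := by
  have h1 : p * p ∣ e * t := by
    rw [he]
    simp only [Finset.prod_range_succ, Finset.prod_range_zero, one_mul]
    have h4 : p ∣ q ^ 4 - 1 := by
      refine hpq.trans ?_
      have := Nat.sub_dvd_pow_sub_pow (q ^ 2) 1 2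
      rwa [one_pow, ← pow_mul] at this
    have h2 : p * p ∣ (q ^ (1 + 1) - 1) * (q ^ (3 + 1) - 1) := Nat.mul_dvd_mul hpq h4
    refine h2.trans ⟨(q ^ (0 + 1) - 1) * (q ^ (2 + 1) - 1), by ring⟩
  have ht5 : t ∣ 5 := ht.trans (Nat.gcd_dvd_left _ _)
  rcases (Nat.dvd_prime (by norm_num)).1 ht5 with rfl | rfl
  · rw [mul_one] at h1
    exact (Dvd.intro _ rfl).trans h1
  · by_cases h5 : p = 5
    · subst h5
      exact Nat.dvd_of_mul_dvd_mul_right (by norm_num) h1
    · have h6 : p ∣ e * 5 := (Dvd.intro _ rfl).trans h1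
      rcases hp.dvd_mul.1 h6 with h7 | h7
      · exact h7
      · exact absurd ((Nat.prime_dvd_prime_iff_eq hp (by norm_num)).1 h7) h5

open Cfsg.Lie Cfsg.Agent.Nodes.RGDChev in
/-- **`E₆(q)`, `p ∣ q ^ 2 - 1`.** -/
theorem many_E6_cross {K : Type*} [Field K] [Fintype K] {S : Type*} [Group S] {p : ℕ} (hp : p.Prime)
    (hpK : p ∣ Fintype.card K ^ 2 - 1) (e : S ≃* ↥(chevE6.group K)) : Many p S 3 := by
  obtain ⟨r, f, hr, hf, hF, hch⟩ := exists_prime_pow' K
  have := finite_group (K := K) chevE6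
  have D := data_E6_3 hr hf hF
  have := D.fin
  rw [hF] at hpK
  obtain ⟨θ, d, t, hθ, hd, hdt, ht⟩ := H622.Levi.cusp_chain D.rgd (m := 4) (by norm_num) k6 hk6 0 (D.size _)
  refine Many.of_equiv e (many_free hr (dvd_pow_self r hf) (j₀ := 0) (i₀ := 2) (K := Set.range k6) D
    (fun hc => ((mem6 0).1 hc).2 rfl) (fun i hi => or60 i ((mem6 i).1 hi).1 ((mem6 i).1 hi).2) (by decide +kernel) rfl
    comb6 (fun w hw => ?_) hθ hd (dvd_aux hp hpK hdt ht) (in_node D 0 2 (by decide +kernel)))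
  refine not_perm_of_mod (j := 2) (u := u6) (fun i => ?_) (pairing_u6 hpE6.isCartan) (by decide) hw
  rw [← compl6]
  exact Iff.rfl

end Cfsg.Agent.H64.Dl
end

-- part: H195/Dl/F4Tab
section
/-!
# The table of the spherical machine for `F₄` and the second node (helper195)

96 states (the cosets of the Weyl group of type `A₁A₂`), 17 classes; the operator of the adjacency in `G/P₂`, `q = 2`;
the eigenvalues `-3`, `1`, `9` with the degrees `519792`, `947700`, `584766`.
-/

set_option autoImplicit false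
set_option maxRecDepth 100000
set_option exponentiation.threshold 5000

namespace Cfsg.Agent.H195.Dl.F4Tab

open Cfsg.Agent.H967.Sph Cfsg.Agent.ChevalleyStructure.CoxeterGeomTypes

def vN : ℕ := 0x8878869786896a776896a8776a69a696687aa86966a78a76a67a6699a4a74a8788958a5aa4994a796c67c687886b489884b76c59c67968a5aa6784a9c4984c7766b6aa59687ba6a54c698c584a96c877669aa4b6a67b8a8548a7c86986b54a7ac696a49a6c768a5b4899c4a7868b6a95c67aaa766c5a84b8c4998c67a8956a6baa5a66b74c7888a58c59a86b66a9a4b74a97c878887b86b6a4a94a896c77c697869a6a966c69c689aa776a7aa89668a7aa696899a87aa6a7a6998a878a798898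

def sN : ℕ := 0x5f5f5e5f5e5c5f5d5d595d5e5a5e5b59585b5c575c5a5856565d555c5b545a535357525b5956515a5150595254584f4e574e4d584d4c5755554b564d4a55504c4f4f54494e53475452465351455248504351444650434a454949424f41484c4847404e423e4d3f4b4c3e414a3c444b3d4b4a3c3e423b4947483a45413847393b3639463746453643353d374444344335324233403a41313a2f3f403040382f322e303d3f3f2d3e2e3d2c2e3c343c342c2a333b2b3b322a3831283a2927372b393926382737253536263628252c352434232b3033332232232920293121312d20301f232f2d2f211f1f2e1e2d241d2c242b1b272a222a1c1b2821261a1a29192825271826181725191624171d1c1c22151b231422201a13211312201e1e111f13101e1d121d16101615150f1c140e1b0f190d1a180c1912170b180e0d170b160c0f0a15140914110a0713081112070c1011100907050f060e0e090b0504080d060d0c040b03060a080a0503090802070306010504020402010103000200000100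

def cN : ℕ := 0x100f0f0f0e0f0f0e0e0f0c0e0e0c0c0c0d0e0c0c0c0c0d0b0a0c0c090c0a0b0a080c09090a0b080a08080909070a0608080808090707060608080805070706060803050407060303030504020303030302020303030202010301020101010100

def wN : ℕ := 0x14131212111111101010100f0f0f0f0f0e0e0e0e0e0e0d0d0d0d0d0d0d0c0c0c0c0c0c0c0b0b0b0b0b0b0b0b0a0a0a0a0a0a0a0a0909090909090909080808080808080707070707070706060606060605050505050404040403030302020100

def pathL : List (List (Fin 4)) :=
  [[], [1], [1, 0], [1, 2], [1, 0, 2], [1, 2, 1], [1, 2, 3], [1, 0, 2, 1], [1, 0, 2, 3], [1, 2, 1, 0], [1, 2, 1, 3], [1, 0, 2, 1, 0], [1, 0, 2, 1, 2], [1, 0, 2, 1, 3], [1, 2, 1, 0, 3], [1, 2, 1, 3, 2], [1, 0, 2, 1, 0, 2], [1, 0, 2, 1, 0, 3], [1, 0, 2, 1, 2, 3], [1, 0, 2, 1, 3, 2], [1, 2, 1, 0, 3, 2], [1, 2, 1, 3, 2, 1], [1, 0, 2, 1, 0, 2, 1], [1, 0, 2, 1, 0, 2, 3], [1, 0, 2, 1, 0, 3, 2], [1, 0, 2, 1, 2, 3, 2], [1, 0, 2, 1, 3, 2, 1], [1, 2, 1, 0, 3, 2, 1], [1, 2, 1, 3, 2, 1, 0], [1, 0, 2, 1, 0, 2, 1, 3], [1,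 0, 2, 1, 0, 2, 3, 2], [1, 0, 2, 1, 0, 3, 2, 1], [1, 0, 2, 1, 2, 3, 2, 1], [1, 0, 2, 1, 3, 2, 1, 0], [1, 2, 1, 0, 3, 2, 1, 0], [1, 2, 1, 0, 3, 2, 1, 2], [1, 0, 2, 1, 0, 2, 1, 3, 2], [1, 0, 2, 1, 0, 2, 3, 2, 1], [1, 0, 2, 1, 0, 3, 2, 1, 0], [1, 0, 2, 1, 0, 3, 2, 1, 2], [1, 0, 2, 1, 2, 3, 2, 1, 0], [1, 0, 2, 1, 2, 3, 2, 1, 2], [1, 2, 1, 0, 3, 2, 1, 0, 2], [1, 2, 1, 0, 3, 2, 1, 2, 3], [1, 0, 2, 1, 0, 2, 1, 3, 2, 1], [1, 0, 2, 1, 0, 2, 3, 2, 1, 0], [1, 0, 2, 1, 0, 2, 3, 2, 1, 2], [1, 0, 2, 1, 0, 3, 2, 1, 0, 2], [1, 0, 2, 1, 0, 3, 2, 1, 2, 3], [1, 0, 2, 1, 2, 3, 2, 1, 0, 2], [1, 2, 1, 0, 3, 2, 1, 0, 2, 1], [1, 2, 1, 0, 3, 2, 1, 0, 2, 3], [1, 0, 2, 1, 0, 2, 1, 3, 2, 1, 0], [1, 0, 2, 1, 0, 2, 1, 3, 2, 1, 2], [1, 0, 2, 1, 0, 2, 3, 2, 1, 0, 2], [1, 0, 2, 1, 0, 2, 3, 2, 1, 2, 3], [1, 0, 2, 1, 0, 3, 2, 1, 0, 2, 1], [1, 0, 2, 1, 0, 3, 2, 1, 0, 2, 3], [1, 0, 2, 1, 2, 3, 2, 1, 0, 2, 1], [1, 2, 1, 0, 3, 2, 1, 0, 2, 1, 3], [1, 0, 2, 1, 0, 2, 1, 3, 2, 1, 0, 2], [1, 0, 2,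 1, 0, 2, 1, 3, 2, 1, 2, 3], [1, 0, 2, 1, 0, 2, 3, 2, 1, 0, 2, 1], [1, 0, 2, 1, 0, 2, 3, 2, 1, 0, 2, 3], [1, 0, 2, 1, 0, 3, 2, 1, 0, 2, 1, 3], [1, 0, 2, 1, 2, 3, 2, 1, 0, 2, 1, 2], [1, 2, 1, 0, 3, 2, 1, 0, 2, 1, 3, 2], [1, 0, 2, 1, 0, 2, 1, 3, 2, 1, 0, 2, 1], [1, 0, 2, 1, 0, 2, 1, 3, 2, 1, 0, 2, 3], [1, 0, 2, 1, 0, 2, 3, 2, 1, 0, 2, 1, 2], [1, 0, 2, 1, 0, 2, 3, 2, 1, 0, 2, 1, 3], [1, 0, 2, 1, 0, 3, 2, 1, 0, 2, 1, 3, 2], [1, 0, 2, 1, 2, 3, 2, 1, 0, 2, 1, 2, 3], [1, 2, 1, 0, 3, 2, 1, 0, 2, 1, 3, 2, 1], [1, 0, 2, 1, 0, 2, 1, 3, 2, 1, 0, 2, 1, 2], [1, 0, 2, 1, 0, 2, 1, 3, 2, 1, 0, 2, 1, 3], [1, 0, 2, 1, 0, 2, 3, 2, 1, 0, 2, 1, 2, 3], [1, 0, 2, 1, 0, 2, 3, 2, 1, 0, 2, 1, 3, 2], [1, 0, 2, 1, 0, 3, 2, 1, 0, 2, 1, 3, 2, 1], [1, 2, 1, 0, 3, 2, 1, 0, 2, 1, 3, 2, 1, 0], [1, 0, 2, 1, 0, 2, 1, 3, 2, 1, 0, 2, 1, 2, 3], [1, 0, 2, 1, 0, 2, 1, 3, 2, 1, 0, 2, 1, 3, 2], [1, 0, 2, 1, 0, 2, 3, 2, 1, 0, 2, 1, 2, 3, 2], [1, 0, 2, 1, 0, 2, 3, 2, 1, 0, 2, 1, 3, 2, 1], [1, 0, 2, 1,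 0, 3, 2, 1, 0, 2, 1, 3, 2, 1, 0], [1, 0, 2, 1, 0, 2, 1, 3, 2, 1, 0, 2, 1, 2, 3, 2], [1, 0, 2, 1, 0, 2, 1, 3, 2, 1, 0, 2, 1, 3, 2, 1], [1, 0, 2, 1, 0, 2, 3, 2, 1, 0, 2, 1, 2, 3, 2, 1], [1, 0, 2, 1, 0, 2, 3, 2, 1, 0, 2, 1, 3, 2, 1, 0], [1, 0, 2, 1, 0, 2, 1, 3, 2, 1, 0, 2, 1, 2, 3, 2, 1], [1, 0, 2, 1, 0, 2, 1, 3, 2, 1, 0, 2, 1, 3, 2, 1, 0], [1, 0, 2, 1, 0, 2, 3, 2, 1, 0, 2, 1, 2, 3, 2, 1, 0], [1, 0, 2, 1, 0, 2, 1, 3, 2, 1, 0, 2, 1, 2, 3, 2, 1, 0], [1, 0, 2, 1, 0, 2, 1, 3, 2, 1, 0, 2, 1, 2, 3, 2, 1, 2], [1, 0, 2, 1, 0, 2, 1, 3, 2, 1, 0, 2, 1, 2, 3, 2, 1, 0, 2], [1, 0, 2, 1, 0, 2, 1, 3, 2, 1, 0, 2, 1, 2, 3, 2, 1, 0, 2, 1]]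

def cpathL : List (List (Fin 4)) :=
  [[], [], [0], [2], [0, 2], [], [2, 3], [], [0, 2, 3], [0], [3], [0], [2], [3], [0, 3], [3, 2], [0, 2], [0, 3], [2, 3], [3, 2], [0, 3, 2], [], [], [0, 2, 3], [0, 3, 2], [2, 3, 2], [], [], [0], [3], [0, 2, 3, 2], [], [3], [0], [0], [2], [3, 2], [3], [0], [2], [0, 3], [3, 2], [0, 2], [2, 3], [], [0, 3], [3, 2], [0, 2], [2, 3], [0, 3, 2], [], [0, 2, 3], [0], [2], [0, 3, 2], [2, 3, 2], [0], [0, 2, 3], [], [3], [0, 2], [2, 3], [], [0, 2, 3, 2], [0, 3], [2], [3, 2], [0], [0, 2, 3], [2], [3], [0, 3, 2], [2, 3], [], [0, 2], [0, 3], [2, 3], [3, 2], [], [0], [0, 2, 3], [0, 3, 2], [2, 3, 2], [2], [0], [0, 2, 3, 2], [], [2, 3], [0, 2], [3], [0], [0, 2, 3], [0, 3], [3, 2], [0, 3, 2], []]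

def crepL : List (Fin 96) := [0, 1, 5, 7, 21, 22, 26, 27, 31, 44, 50, 58, 62, 73, 78, 86, 95]

def words : List (List (Fin 4)) := [[1], [0, 1], [2, 1], [2, 0, 1], [3, 2, 1], [3, 2, 0, 1]]

def mL : List (List ℤ) :=
  [[0, 42, 0, 0, 0, 0, 0, 0, 0, 0, 0, 0, 0, 0, 0, 0, 0], [1, 5, 12, 24, 0, 0, 0, 0, 0, 0, 0, 0, 0, 0, 0, 0, 0], [0, 3, 3, 12, 8, 0, 0, 16, 0, 0, 0, 0, 0, 0, 0, 0, 0], [0, 1, 2, 7, 0, 8, 8, 0, 16, 0, 0, 0, 0, 0, 0, 0, 0], [0, 0, 7, 0, 7, 0, 0, 28, 0, 0, 0, 0, 0, 0, 0, 0, 0], [0, 0, 0, 9, 0, 9, 0, 0, 0, 24, 0, 0, 0, 0, 0, 0, 0], [0, 0, 0, 3, 0, 0, 11, 0, 12, 0, 0, 16, 0, 0, 0, 0, 0], [0, 0, 1, 0, 2, 0, 0, 3, 12, 0, 24, 0, 0, 0, 0, 0, 0], [0, 0, 0, 1, 0, 0, 2, 2, 5, 8, 8, 0, 16, 0, 0, 0, 0], [0, 0, 0, 0, 0, 1, 0, 0, 6, 11, 0, 0, 24, 0, 0, 0, 0], [0, 0, 0, 0, 0, 0, 0, 3, 6, 0, 9, 0, 0, 8, 16, 0, 0], [0, 0, 0, 0, 0, 0, 3, 0, 0, 0, 0, 3, 36, 0, 0, 0, 0], [0, 0, 0, 0, 0, 0, 0, 0, 1, 2, 0, 2, 13, 0, 8, 16, 0], [0, 0, 0, 0, 0, 0, 0, 0, 0, 0, 7, 0, 0,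 7, 28, 0, 0], [0, 0, 0, 0, 0, 0, 0, 0, 0, 0, 1, 0, 6, 2, 9, 24, 0], [0, 0, 0, 0, 0, 0, 0, 0, 0, 0, 0, 0, 3, 0, 6, 17, 16], [0, 0, 0, 0, 0, 0, 0, 0, 0, 0, 0, 0, 0, 0, 0, 21, 21]]

/-- numerators of the spherical vector, denominator 28672 -/
def aA : List ℤ := [28672, -2048, -2048, 512, 1792, -128, -128, -128, 192, -128, -128, -128, 32, 112, -8, -8, 7]

/-- certificate, denominator 123863040 -/
def cA : List (List ℤ) :=
  [[0, 0, 0, 0, 0, 0, 0, 0, 0, 0, 0, 0, 0, 0, 0, 0, 0], [2949120, 0, 0, 0, 0, 0, 0, 0, 0, 0, 0, 0, 0, 0, 0, 0, 0], [-814080, 11289600, -19167232, 1376256, 11984896, -3325952, 2064384, 16744448, -30965760, 28901376, -22478848, 7340032, -38535168, 12845056, 25690112, 0, 0], [-576000, -483840, 9583616, -688128, -5992448, 1662976, -1032192, -8372224, 15482880, -14450688, 11239424, -3670016, 19267584, -6422528, -12845056, 0, 0], [-134400, -7338240, 20647424, 2408448, -9992192, -5820416, 3612672, 29302784, -54190080, 50577408, -39337984, 12845056,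 -67436544, 22478848, 44957696, 0, 0], [412800, -685440, -6187776, 6709248, 3591168, 5720064, -2838528, 6795264, -19353600, 1548288, -1204224, 8257536, -2064384, 688128, 1376256, 0, 0], [251520, -201600, -3499776, 1548288, 3161088, -301056, 2322432, -1806336, 27095040, -8773632, -25288704, 8257536, -43352064, 14450688, 28901376, 0, 0], [251520, -201600, -2582272, -1204224, 4996096, 2910208, -1806336, -14651392, 27095040, -25288704, 19668992, -6422528, 33718272, -11239424, -22478848, 0, 0], [-54720, -665280, 1249920, 3870720, -1128960, -3333120, 645120, 645120, -9676800, 9031680, 9031680, -6881280, 15482880, -5160960, -10321920, 0, 0], [9600, 524160, -499968, -3096576, 451584, 1677312, 1806336, -258048, 3870720, 4644864, -3612672, -2752512, -6193152, 2064384, 4128768, 0, 0], [9600, 524160, -901376, -1892352, -351232, 1562624, -258048, 5361664, 3870720, -3612672, -5218304, 3670016, -8945664, 2981888, 5963776, 0, 0], [-71040, 766080, 327936, -4128768, -795648,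 2451456, 5419008, 2666496, -19353600, 3612672, 13246464, -1376256, 22708224, -7569408, -15138816, 0, 0], [-9120, -110880, 236992, 559104, -130816, -383488, -1096704, -293888, 967680, 129024, -100352, 2981888, -172032, 57344, 114688, 0, 0], [-220080, 176400, 3263008, -1956864, -2364544, -539392, 1580544, -1229312, -23708160, 22127616, 22930432, 13647872, -53587968, -13103104, 35725312, 0, 0], [76200, -194040, -940016, 1171968, 932288, -198016, -499968, -901376, 7499520, -6999552, -6884864, -5791744, 21374976, 8357888, -14249984, 0, 0], [-17880, 88200, 176400, -483840, -221760, 174720, 403200, 403200, -2177280, 1774080, 1774080, 860160, -5806080, -3225600, 9031680, 0, 0], [-4515, -16695, 87570, 60480, -47880, -72240, -110880, -110880, -272160, 383040, 383040, 537600, -725760, 887040, -5967360, 7741440, 0]]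

/-- numerators of the spherical vector, denominator 258048 -/
def aB : List ℤ := [258048, 6144, -12288, -5632, 5376, 5760, 1920, 1920, -576, 192, 192, 288, -176, -672, 96, 60, -63]

/-- certificate, denominator 1438875648 -/
def cB : List (List ℤ) :=
  [[0, 0, 0, 0, 0, 0, 0, 0, 0, 0, 0, 0, 0, 0, 0, 0, 0], [34258944, 0, 0, 0, 0, 0, 0, 0, 0, 0, 0, 0, 0, 0, 0, 0, 0], [2767872, 71285760, -115587072, -54632448, 115384320, 4866048, 92012544, 116195328, -315850752, 398131200, -327352320, 49545216, -785645568, 261881856, 523763712, 0, 0], [-7093760, 24310272, 57793536, 27316224, -57692160, -2433024, -46006272, -58097664, 157925376, -199065600, 163676160, -24772608, 392822784, -130940928, -261881856, 0, 0], [-2650368, -32626944, 112476672, -95606784, 22063104, 8515584, 161021952, 203341824, -552738816, 696729600, -572866560, 86704128, -1374879744, 458293248, 916586496, 0, 0], [4563072, -27554688, -45971712, 56484864, 31435776, 143308800, -46448640, 89579520, -276369408,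 -159473664, 76308480, 188448768, 183140352, -61046784, -122093568, 0, 0], [-124032, -10829952, 3283200, 38679552, 14791680, -48384000, 75497472, -57507840, 197406720, 77635584, -248832000, -6782976, -597196800, 199065600, 398131200, 0, 0], [-124032, -10829952, 4794624, 34145280, 17814528, -3041280, -57507840, -72622080, 197406720, -248832000, 204595200, -30965760, 491028480, -163676160, -327352320, 0, 0], [-2046528, 1165248, 14120064, 38932992, -15902208, -47158272, -8773632, -8773632, 19740672, 65802240, 65802240, -87736320, 157925376, -52641792, -105283584, 0, 0], [1139136, 68544, -6348672, -29071872, 11155968, 13095936, 32735232, -8073216, 32901120, 127807488, -86814720, -53526528, -208355328, 69451776, 138903552, 0, 0], [1139136, 68544, -12016512, -12068352, -179712, 22920192, -8073216, 48605184, 32901120, -86814720, 11427840, 37158912, 27426816, -9142272, -18284544, 0, 0], [2942496, 1336608, -23478336, -58496256, 13499136, 66064896, 57950208, 53415936,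 -167795712, -60549120, 75479040, 74686464, 181149696, -60383232, -120766464, 0, 0], [-153136, 828240, 1030752, 26496, -1982592, 361728, -9510912, 1824768, -7128576, -3105792, 16542720, 36384768, 39702528, -13234176, -26468352, 0, 0], [1770720, 5517792, -11164608, -62947584, 9338112, 43835904, 56318976, 16644096, -184246272, 152893440, 84123648, 102961152, -553512960, 4644864, 369008640, 0, 0], [-664224, -1199520, 5396544, 16505856, -1956096, -15123456, -10050048, -15717888, 31256064, -11059200, -20883456, -31352832, 111753216, 52678656, -74502144, 0, 0], [64668, -269892, -625464, 239904, 376992, 342720, 1370880, 1370880, 5346432, -4660992, -4660992, -8773632, -2193408, -14257152, 61415424, 0, 0], [213129, 564417, -1591506, -6434568, 728280, 5260752, 4181184, 4181184, -15730848, 9390528, 9390528, 13708800, -47158272, -3015936, -28514304, 89929728, 0]]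

/-- numerators of the spherical vector, denominator 86016 -/
def aC : List ℤ := [86016, 18432, 0, -512, -5376, -2688, -384, -384, 320, 192, 192, -96, 16, 0, -48, -12, 21]

/-- certificate, denominator 227082240 -/
def cC : List (List ℤ) :=
  [[0, 0, 0, 0, 0, 0, 0, 0, 0, 0, 0, 0, 0, 0, 0, 0, 0], [5406720, 0, 0, 0, 0, 0, 0, 0, 0, 0, 0, 0, 0, 0, 0, 0, 0], [1612800, 14515200, -3741696, 1548288, 1548288, -27181056, -28901376, 16515072, 30965760, -12386304, 17891328, -5505024, 214695936, -71565312, -143130624, 0, 0], [94720, 2204160, 1870848, -774144, -774144, 13590528, 14450688, -8257536, -15482880, 6193152, -8945664, 2752512, -107347968, 35782656, 71565312, 0, 0], [-134400, 12983040, 18289152, 2709504, -11483136, -47566848, -50577408, 28901376, 54190080, -21676032, 31309824, -9633792, 375717888, -125239296, -250478592, 0, 0], [-147840, 5765760, 3370752, 19160064, -9225216, -14665728, -17031168, -22708224, 42577920, 73801728, -5677056, -68124672, -68124672,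 22708224, 45416448, 0, 0], [-412800, -2701440, -596736, 8322048, 1225728, 5289984, 14966784, 3612672, -3870720, -66576384, 1548288, 46104576, 18579456, -6193152, -12386304, 0, 0], [-412800, -2701440, 2241792, -193536, 6902784, 3397632, 3612672, -2064384, -3870720, 1548288, -2236416, 688128, -26836992, 8945664, 17891328, 0, 0], [-247360, -3071040, -685440, 161280, 3709440, 9784320, 6451200, 6451200, -25159680, -1290240, -1290240, 12042240, -15482880, 5160960, 10321920, 0, 0], [-35520, -826560, -701568, 290304, 290304, 4365312, -5419008, 3096576, 5806080, -2322432, 3354624, -1032192, 40255488, -13418496, -26836992, 0, 0], [-35520, -826560, -465024, -419328, 763392, 1053696, 3096576, 2623488, 5806080, 3354624, -3268608, -4816896, -39223296, 13074432, 26148864, 0, 0], [219360, 2227680, 237888, -1016064, -2790144, -10547712, 4773888, -3741696, 22256640, 8128512, 2451456, -15310848, 29417472, -9805824, -19611648, 0, 0], [70960, 596400, 89376, -862848, -567168,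 -2198784, -451584, -924672, 4032000, 6902784, 279552, -86016, 3354624, -1118208, -2236416, 0, 0], [282240, 2540160, -489216, -225792, -4365312, -7074816, -4064256, -2408448, 20321280, 1806336, 24987648, -10235904, 1806336, -14794752, -1204224, 0, 0], [29040, 388080, 81312, 88704, -502656, -768768, -1064448, -827904, 0, -709632, 2601984, 473088, 9934848, 3784704, -6623232, 0, 0], [-39780, -326340, 37800, 252000, 473760, 1095360, 322560, 322560, -2943360, -2016000, -2016000, 1075200, 645120, 967680, 9031680, 0, 0], [-4305, -94185, -66150, 2520, 57960, 152880, 322560, 322560, 715680, -20160, -20160, -698880, -4677120, -1693440, -1612800, 14192640, 0]]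

/-- the Cartan matrix -/
def cm (i k : Fin 4) : ℤ := ([[2, -1, 0, 0], [-1, 2, -2, 0], [0, -1, 2, -1], [0, 0, -1, 2]].getD i []).getD k 0

theorem cartan_eq : ∀ i k : Fin 4, cartanOf Cfsg.Lie.chevF4 4 i k = cm i k := by decide +kernel

def vec (a : Fin 96) (k : Fin 4) : ℤ := ((Nat.land (Nat.shiftRight vN (4 * (4 * a.val + k.val))) 15 : ℕ) : ℤ) - 8

def st (i : Fin 4) (a : Fin 96) : Fin 96 := Fin.ofNat 96 (Nat.land (Nat.shiftRight sN (8 * (4 * a.val + i.val))) 255)

def cls (a : Fin 96) : Fin 17 := Fin.ofNat 17 (Nat.land (Nat.shiftRight cN (8 * a.val)) 255)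

def wt (a : Fin 96) : ℕ := 2 ^ (Nat.land (Nat.shiftRight wN (8 * a.val)) 255)

def path (a : Fin 96) : List (Fin 4) := pathL.getD a []

def cpath (a : Fin 96) : List (Fin 4) := cpathL.getD a []

def crep (c : Fin 17) : Fin 96 := crepL.getD c 0

theorem vec_o : ∀ k : Fin 4, vec 0 k = if k = 1 then 1 else 0 := by decide +kernel

/-- the four coordinates as one number -/
private def cd16 (v : Fin 4 → ℤ) : ℕ := (v 0 + 8).toNat + 16 * (v 1 + 8).toNat + 256 * (v 2 + 8).toNat + 4096 * (v 3 + 8).toNat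

private def dN16 : ℕ := 0x120050163800002341000000000000304c0032000e2800001e3f000000000000000000000000190055000000000000000a00005c003752000000143100000020005900000200340000000000000000000000010000540f00005e000000000000000000000029005d000004003c0000002c4e0000000b260003000058000000000000000700430000000000000000000000001f3e00003553003300102f0000000000001d4000002b480c004a0000000000003b000000000027450800440000000000000000112d000600005b000000000000000d004b000000000000001c00000000254600003d5700000000004f002447000000000022000000000000004200000000001b3a001500005f0000092100001836000000004900000000000000130051000000000000000500005a002e4d00000000000000001a0056173900000000002a000000000000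

private theorem cd16_inv : ∀ a : Fin 96, Nat.land (Nat.shiftRight dN16 (8 * Nat.mod (cd16 (vec a)) 329)) 255 = a.val := by
  decide +kernel

theorem vec_inj : ∀ a b : Fin 96, (∀ k, vec a k = vec b k) → a = b := fun a b h =>
  Fin.ext (by rw [← cd16_inv a, ← cd16_inv b, funext h])

private noncomputable def _root_.Cfsg.Agent.LsF.fe50e66_0 : {f // @Cfsg.Agent.H195.Dl.F4Tab.vec = f} := ⟨_, by first | (delta Cfsg.Agent.H195.Dl.F4Tab.vec; rewrite [Cfsg.Agent.LsF.nadd_pat, Cfsg.Agent.LsF.nmul_pat, Cfsg.Agent.LsF.isub_pat, Cfsg.Agent.LsF.icast_pat]; exact rfl) | exact rfl⟩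
private noncomputable def _root_.Cfsg.Agent.LsF.fe50e66_1 : {f // @Cfsg.Agent.H195.Dl.F4Tab.st = f} := ⟨_, by first | (delta Cfsg.Agent.H195.Dl.F4Tab.st; rewrite [Cfsg.Agent.LsF.nadd_pat, Cfsg.Agent.LsF.nmul_pat]; exact rfl) | exact rfl⟩
private noncomputable def _root_.Cfsg.Agent.LsF.fe50e66_2 : {f // @Cfsg.Agent.H195.Dl.F4Tab.cm = f} := ⟨_, by first | (delta Cfsg.Agent.H195.Dl.F4Tab.cm; rewrite [Cfsg.Agent.LsF.ineg_pat, Cfsg.Agent.LsF.getD_eq]; exact rfl) | exact rfl⟩
theorem vec_st : ∀ (i : Fin 4) (a : Fin 96) (k : Fin 4), vec (st i a) k = vec a k - cm i k * vec a i := by (refine of_decide_eq_true ?_; (try (rewrite [Cfsg.Agent.LsF.fe50e66_0.2, Cfsg.Agent.LsF.fe50e66_1.2, Cfsg.Agent.LsF.fe50e66_2.2, Cfsg.Agent.LsF.imul_pat, Cfsg.Agent.LsF.isub_pat, Cfsg.Agent.LsF.instIDecEq_eq, Cfsg.Agent.LsF.dForallFin_eq, Cfsg.Agent.LsF.decide_eq])); decide +kernel)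

private noncomputable def _root_.Cfsg.Agent.LsF.fe50e66_3 : {f // @Cfsg.Agent.H195.Dl.F4Tab.path = f} := ⟨_, by first | (delta Cfsg.Agent.H195.Dl.F4Tab.path; rewrite [Cfsg.Agent.LsF.getD_eq]; exact rfl) | exact rfl⟩
theorem path_spec : ∀ a : Fin 96, (path a).foldl (fun b i => st i b) 0 = a := by (refine of_decide_eq_true ?_; (try (rewrite [Cfsg.Agent.LsF.fe50e66_1.2, Cfsg.Agent.LsF.fe50e66_3.2, Cfsg.Agent.LsF.foldl_eq, Cfsg.Agent.LsF.dFinEq_eq, Cfsg.Agent.LsF.dForallFin_eq, Cfsg.Agent.LsF.decide_eq])); decide +kernel)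

theorem cls_st : ∀ i : Fin 4, i ≠ 1 → ∀ a, cls (st i a) = cls a := by decide +kernel

private noncomputable def _root_.Cfsg.Agent.LsF.fe50e66_4 : {f // @Cfsg.Agent.H195.Dl.F4Tab.cpath = f} := ⟨_, by first | (delta Cfsg.Agent.H195.Dl.F4Tab.cpath; rewrite [Cfsg.Agent.LsF.getD_eq]; exact rfl) | exact rfl⟩
theorem cpath_ne : ∀ a : Fin 96, ∀ i ∈ cpath a, i ≠ 1 := by (refine of_decide_eq_true ?_; (try (rewrite [Cfsg.Agent.LsF.dMemE_pat, Cfsg.Agent.LsF.fe50e66_4.2, Cfsg.Agent.LsF.dNot_eq, Cfsg.Agent.LsF.dFinEq_eq, Cfsg.Agent.LsF.dForallFin_eq, Cfsg.Agent.LsF.dAllP_eq, Cfsg.Agent.LsF.decide_eq])); decide +kernel)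

private noncomputable def _root_.Cfsg.Agent.LsF.fe50e66_5 : {f // @Cfsg.Agent.H195.Dl.F4Tab.crep = f} := ⟨_, by first | (delta Cfsg.Agent.H195.Dl.F4Tab.crep; rewrite [Cfsg.Agent.LsF.getD_eq]; exact rfl) | exact rfl⟩
private noncomputable def _root_.Cfsg.Agent.LsF.fe50e66_6 : {f // @Cfsg.Agent.H195.Dl.F4Tab.cls = f} := ⟨_, by first | (delta Cfsg.Agent.H195.Dl.F4Tab.cls; rewrite [Cfsg.Agent.LsF.nmul_pat]; exact rfl) | exact rfl⟩
theorem cpath_spec : ∀ a : Fin 96, (cpath a).foldl (fun b i => st i b) (crep (cls a)) = a := by (refine of_decide_eq_true ?_; (try (rewrite [Cfsg.Agent.LsF.fe50e66_1.2, Cfsg.Agent.LsF.fe50e66_5.2, Cfsg.Agent.LsF.fe50e66_6.2, Cfsg.Agent.LsF.fe50e66_4.2, Cfsg.Agent.LsF.foldl_eq, Cfsg.Agent.LsF.dFinEq_eq, Cfsg.Agent.LsF.dForallFin_eq, Cfsg.Agent.LsF.decide_eq])); decide +kernel)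

/-- the table -/
def tab : Tab (cartanOf Cfsg.Lie.chevF4 4) 1 96 17 where
  vec := vec
  st := st
  cls := cls
  o := 0
  vec_o := by
    funext k
    rw [vec_o, Pi.single_apply]
  vec_inj := fun a b h => vec_inj a b fun k => congrFun h k
  vec_st := fun i a k => by rw [cartan_eq, vec_st]
  path := path
  path_spec := path_spec
  cls_st := cls_st
  crep := crep
  cpath := cpath
  cpath_ne := cpath_ne
  cpath_spec := cpath_spec

theorem wt_o : wt tab.o = 1 := by decide +kernel

theorem wt_st : ∀ (i : Fin 4) (s : Fin 96), 0 < tab.vec s i → wt (tab.st i s) = 2 * wt s := by decide +kernel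

end Cfsg.Agent.H195.Dl.F4Tab
end

-- part: H195/Dl/TabLin
section
/-!
# The spherical machine: certificates (helper195)

`eig_of_cert`, `uniq_of_cert`: the hypotheses `he`, `hu` of `Cfsg.Agent.H967.Sph.exists_char` from an integral matrix and an
integral certificate.
-/

set_option autoImplicit false

namespace Cfsg.Agent.H195.Dl.TabLin

open Cfsg.Agent.H967.Sph

variable {I : Type*} [DecidableEq I] {A : I → I → ℤ} {j : I} {N m : ℕ} (t : Tab A j N m) (q : I → ℕ)

/-- the indicator function of a class -/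
def ind (c : Fin m) (u : Fin N) : ℚ := if t.cls u = c then 1 else 0

theorem tau_sum (i : I) (b : Fin m → ℚ) (φ : Fin m → Fin N → ℚ) :
    t.tau q i (fun s => ∑ c, b c * φ c s) = fun s => ∑ c, b c * t.tau q i (φ c) s := by
  funext s
  unfold Tab.tau
  split_ifs
  · rw [Finset.mul_sum, ← Finset.sum_add_distrib]
    exact Finset.sum_congr rfl fun c _ => by ring
  · rw [Finset.mul_sum]
    exact Finset.sum_congr rfl fun c _ => by ring

theorem tauW_sum (w : List I) (b : Fin m → ℚ) (φ : Fin m → Fin N → ℚ) :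
    t.tauW q w (fun s => ∑ c, b c * φ c s) = fun s => ∑ c, b c * t.tauW q w (φ c) s := by
  induction w with
  | nil => rfl
  | cons i w ih =>
    show t.tau q i (t.tauW q w (fun s => ∑ c, b c * φ c s)) = fun s => ∑ c, b c * t.tau q i (t.tauW q w (φ c)) s
    rw [ih, tau_sum]

theorem tauD_sum (D : List (List I)) (b : Fin m → ℚ) (φ : Fin m → Fin N → ℚ) (s : Fin N) :
    t.tauD q D (fun s => ∑ c, b c * φ c s) s = ∑ c, b c * t.tauD q D (φ c) s := by
  unfold Tab.tauD
  induction D with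
  | nil => simp only [_root_.List.map_nil, _root_.List.sum_nil, _root_.MulZeroClass.mul_zero, _root_.Finset.sum_const_zero]
  | cons w D ih =>
    simp only [List.map_cons, List.sum_cons] at ih ⊢
    rw [ih, tauW_sum, ← Finset.sum_add_distrib]
    exact Finset.sum_congr rfl fun c _ => by ring

theorem tauD_cls (D : List (List I)) (b : Fin m → ℚ) (s : Fin N) :
    t.tauD q D (fun u => b (t.cls u)) s = ∑ c, b c * t.tauD q D (ind t c) s := by
  rw [← tauD_sum]
  congr 1
  funext u
  unfold ind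
  simp only [_root_.mul_ite, _root_.mul_one, _root_.MulZeroClass.mul_zero, _root_.Finset.sum_ite_eq, _root_.Finset.mem_univ, ↓ _root_.reduceIte]

variable {t q} {D : List (List I)} {M : Fin m → Fin m → ℤ} {θ : ℤ} {aI : Fin m → ℤ} {la : ℤ}
  (hM : ∀ s c, t.tauD q D (ind t c) s = (M (t.cls s) c : ℚ))

include hM

theorem eig_of_cert (ha : ∀ r, ∑ c, M r c * aI c = θ * aI r) (s : Fin N) :
    t.tauD q D (fun u => (fun c => (aI c : ℚ) / la) (t.cls u)) s = (θ : ℚ) * ((aI (t.cls s) : ℚ) / la) := by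
  rw [tauD_cls t q D (fun c => (aI c : ℚ) / la)]
  have h1 : ∑ c, (M (t.cls s) c : ℚ) * (aI c : ℚ) = (θ : ℚ) * (aI (t.cls s) : ℚ) := by
    exact_mod_cast ha (t.cls s)
  have h2 : ∑ c, (aI c : ℚ) / la * t.tauD q D (ind t c) s = (∑ c, (M (t.cls s) c : ℚ) * (aI c : ℚ)) / la := by
    rw [Finset.sum_div]
    refine Finset.sum_congr rfl fun c _ => ?_
    rw [hM]
    ring
  rw [h2, h1]
  ring

theorem uniq_of_cert (hcls : ∀ k, t.cls (t.crep k) = k) {C : Fin m → Fin m → ℤ} {e : ℤ} (hla : la ≠ 0) (he : e ≠ 0)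
    (hC : ∀ r c, ∑ k, C r k * (M k c - if k = c then θ else 0) =
      (if r = c then la * e else 0) - if c = t.cls t.o then aI r * e else 0)
    (b : Fin m → ℚ) (hb : ∀ s, t.tauD q D (fun u => b (t.cls u)) s = (θ : ℚ) * b (t.cls s)) (c : Fin m) :
    b c = b (t.cls t.o) * ((aI c : ℚ) / la) := by
  have h1 : ∀ k, ∑ c, b c * ((M k c : ℚ) - if k = c then (θ : ℚ) else 0) = 0 := by
    intro k
    have h2 := hb (t.crep k)
    rw [tauD_cls, hcls] at h2
    simp only [mul_sub, Finset.sum_sub_distrib, mul_ite, mul_zero, Finset.sum_ite_eq, Finset.mem_univ, if_true]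
    have h3 : ∑ c, b c * (M k c : ℚ) = ∑ c, b c * t.tauD q D (ind t c) (t.crep k) :=
      Finset.sum_congr rfl fun c _ => by rw [hM, hcls]
    rw [h3, h2]
    ring
  have h2 : ∑ k, (C c k : ℚ) * ∑ d, b d * ((M k d : ℚ) - if k = d then (θ : ℚ) else 0) = 0 :=
    Finset.sum_eq_zero fun k _ => by rw [h1, mul_zero]
  have h3 : ∑ k, (C c k : ℚ) * ∑ d, b d * ((M k d : ℚ) - if k = d then (θ : ℚ) else 0) =
      ∑ d, b d * ((if c = d then (la : ℚ) * e else 0) - if d = t.cls t.o then (aI c : ℚ) * e else 0) := by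
    simp only [Finset.mul_sum]
    rw [Finset.sum_comm]
    refine Finset.sum_congr rfl fun d _ => ?_
    have h4 : ∑ k, (C c k : ℚ) * ((M k d : ℚ) - if k = d then (θ : ℚ) else 0) =
        (if c = d then (la : ℚ) * e else 0) - if d = t.cls t.o then (aI c : ℚ) * e else 0 := by
      have h5 := congrArg (fun x : ℤ => (x : ℚ)) (hC c d)
      push_cast at h5
      exact h5
    rw [← h4, Finset.mul_sum]
    exact Finset.sum_congr rfl fun k _ => by ring
  rw [h3] at h2
  simp only [mul_sub, Finset.sum_sub_distrib, mul_ite, mul_zero, Finset.sum_ite_eq, Finset.sum_ite_eq',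
    Finset.mem_univ, if_true] at h2
  have hla' : (la : ℚ) ≠ 0 := by exact_mod_cast hla
  have he' : (e : ℚ) ≠ 0 := by exact_mod_cast he
  have h6 : (e : ℚ) * (b c * la - b (t.cls t.o) * aI c) = 0 := by linear_combination h2
  have h7 := (mul_eq_zero.1 h6).resolve_left he'
  field_simp
  linear_combination h7

end Cfsg.Agent.H195.Dl.TabLin
end

-- part: H195/Dl/F4Eig
section
/-!
# Eigenvalues for `F₄(2)`, second node (helper195)
-/

set_option autoImplicit false
set_option maxRecDepth 100000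
set_option exponentiation.threshold 5000

namespace Cfsg.Agent.H195.Dl.F4Tab

open Cfsg.Agent.H967.Sph Cfsg.Agent.H195.Dl.TabLin

/-- the matrix of the operator on the classes -/
def mZ (r c : Fin 17) : ℤ := (mL.getD r []).getD c 0

theorem cls_crep : ∀ k : Fin 17, tab.cls (tab.crep k) = k := by decide +kernel

section Pk16
variable (ng : ℕ → ℕ → Bool) (sf : ℕ → ℕ → ℕ) (cl : ℕ → ℕ)

private def inN16 (c u : ℕ) : ℕ := if cl u = c then 1 else 0

private noncomputable def tW16 (φ : ℕ → ℕ) (w : List (Fin 4)) : ℕ → ℕ :=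
  List.rec φ (fun i _ ih s => cond (ng i.val s) (Nat.add (ih (sf i.val s)) (ih s)) (Nat.mul 2 (ih (sf i.val s)))) w

private theorem tW16_cons (φ : ℕ → ℕ) (i : Fin 4) (w : List (Fin 4)) (s : ℕ) : tW16 ng sf φ (i :: w) s =
    cond (ng i.val s) (tW16 ng sf φ w (sf i.val s) + tW16 ng sf φ w s) (2 * tW16 ng sf φ w (sf i.val s)) := rfl

private theorem tW16_le (c : ℕ) (w : List (Fin 4)) (s : ℕ) : tW16 ng sf (inN16 cl c) w s ≤ 2 ^ w.length := by
  induction w generalizing s with
  | nil =>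
    show (if _ then 1 else 0) ≤ 1
    split_ifs
    · exact le_rfl
    · exact Nat.zero_le _
  | cons i w ih =>
    rw [tW16_cons, List.length_cons, pow_succ]
    have h1 := ih (sf i.val s)
    have h2 := ih s
    cases ng i.val s
    · rw [cond_false]; omega
    · rw [cond_true]; omega

/-- all classes at once, as digits -/
private theorem tW16_pk {m : ℕ} (B : ℕ → ℕ) (hcl : ∀ u, cl u < m) (w : List (Fin 4)) (s : ℕ) :
    tW16 ng sf (fun u => B (cl u)) w s = ∑ c : Fin m, tW16 ng sf (inN16 cl c.val) w s * B c.val := by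
  induction w generalizing s with
  | nil =>
    show B (cl s) = ∑ c : Fin m, (if cl s = c.val then 1 else 0) * B c.val
    rw [Finset.sum_eq_single ⟨cl s, hcl s⟩ (fun c _ hc => by rw [if_neg fun h1 => hc (Fin.ext h1.symm), zero_mul])
      fun h1 => absurd (Finset.mem_univ _) h1, if_pos rfl, one_mul]
  | cons i w ih =>
    simp only [tW16_cons]
    cases ng i.val s
    · simp only [cond_false, ih, Finset.mul_sum, mul_assoc]
    · simp only [cond_true, ih, add_mul, Finset.sum_add_distrib]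

private theorem tD16_pk {m : ℕ} (B : ℕ → ℕ) (hcl : ∀ u, cl u < m) (D : List (List (Fin 4))) (s : ℕ) :
    (D.map fun w => tW16 ng sf (fun u => B (cl u)) w s).sum =
      ∑ c : Fin m, (D.map fun w => tW16 ng sf (inN16 cl c.val) w s).sum * B c.val := by
  induction D with
  | nil => simp only [List.map_nil, List.sum_nil, zero_mul, Finset.sum_const_zero]
  | cons w D ih =>
    rw [List.map_cons, List.sum_cons, ih, tW16_pk ng sf cl B hcl, ← Finset.sum_add_distrib]
    exact Finset.sum_congr rfl fun c _ => (add_mul _ _ _).symm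

private theorem dig16 {m b : ℕ} {f g : Fin m → ℕ} (hf : ∀ c, f c < b) (hg : ∀ c, g c < b)
    (h : ∑ c, f c * b ^ c.val = ∑ c, g c * b ^ c.val) (c : Fin m) : f c = g c :=
  congrArg Fin.val (congrFun (finFunctionFinEquiv.injective (a₁ := fun c => (⟨f c, hf c⟩ : Fin b))
    (a₂ := fun c => ⟨g c, hg c⟩) (Fin.ext (by rw [finFunctionFinEquiv_apply, finFunctionFinEquiv_apply]; exact h))) c)

end Pk16

private def ngN16 (i s : ℕ) : Bool := Nat.blt (Nat.land (Nat.shiftRight vN (4 * (4 * s + i))) 15) 8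

private def stN16 (i s : ℕ) : ℕ := Nat.mod (Nat.land (Nat.shiftRight sN (8 * (4 * s + i))) 255) 96

private def clN16 (u : ℕ) : ℕ := Nat.mod (Nat.land (Nat.shiftRight cN (8 * u)) 255) 17

private theorem tW16_eq (φ : ℕ → ℕ) (w : List (Fin 4)) (s : Fin 96) :
    tab.tauW (fun _ => 2) w (fun u => (φ u.val : ℚ)) s = (tW16 ngN16 stN16 φ w s.val : ℚ) := by
  induction w generalizing s with
  | nil => rfl
  | cons i w ih =>
    have h1 : tab.vec s i < 0 ↔ ngN16 i.val s.val = true := by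
      show ((Nat.land (Nat.shiftRight vN (4 * (4 * s.val + i.val))) 15 : ℕ) : ℤ) - 8 < 0 ↔ Nat.blt _ 8 = true
      rw [Nat.blt_eq]
      generalize Nat.land (Nat.shiftRight vN (4 * (4 * s.val + i.val))) 15 = x
      omega
    have h2 : (tab.st i s).val = stN16 i.val s.val := rfl
    rw [tW16_cons]
    show (if tab.vec s i < 0 then tab.tauW (fun _ => 2) w (fun u => (φ u.val : ℚ)) (tab.st i s) +
        (((2 : ℕ) : ℚ) - 1) * tab.tauW (fun _ => 2) w (fun u => (φ u.val : ℚ)) s
      else ((2 : ℕ) : ℚ) * tab.tauW (fun _ => 2) w (fun u => (φ u.val : ℚ)) (tab.st i s)) = _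
    rw [ih, ih, h2]
    cases h : ngN16 i.val s.val
    · rw [if_neg fun h3 => Bool.noConfusion (h.symm.trans (h1.1 h3)), cond_false, Nat.cast_mul]
    · rw [if_pos (h1.2 h), cond_true, Nat.cast_add, Nat.cast_ofNat, show (2 : ℚ) - 1 = 1 by norm_num, one_mul]

private theorem ind16 (c : Fin 17) : ind tab c = fun u => (inN16 clN16 c.val u.val : ℚ) := by
  funext u
  have e : clN16 u.val = (tab.cls u).val := rfl
  unfold inN16 ind
  rw [e]
  by_cases h : tab.cls u = c
  · rw [if_pos h, if_pos (congrArg Fin.val h), Nat.cast_one]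
  · rw [if_neg h, if_neg fun h1 => h (Fin.ext h1), Nat.cast_zero]

private theorem mZ16 : ∀ r c : Fin 17, (mZ r c).toNat < 256 ∧ ((mZ r c).toNat : ℤ) = mZ r c := by decide +kernel

private def mP16 : ℕ := 0x15150000000000000000000000000000001011060003000000000000000000000000001809020600010000000000000000000000001c0700000700000000000000000000001008000d02000201000000000000000000000000240300000000030000000000000000100800000900060300000000000000000000001800000b060000010000000000000000001000080805020200000100000000000000000018000c030000020001000000000000001000000c000b00000300000000000000000000180000000900090000000000000000000000001c000007000700000000000000000000100008080007020100000000000000000000100000080c03030000000000000000000000000000180c05010000000000000000000000000000002a00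

private theorem mP16_eq : ∀ r : Fin 17,
    ∑ c : Fin 17, (mZ r c).toNat * 256 ^ c.val = Nat.mod (Nat.shiftRight mP16 (136 * r.val)) (2 ^ 136) := by decide +kernel

private theorem pk16 : ∀ s : Fin 96, (words.map fun w => tW16 ngN16 stN16 (fun u => 256 ^ clN16 u) w s.val).sum =
    Nat.mod (Nat.shiftRight mP16 (136 * (cls s).val)) (2 ^ 136) := by decide +kernel

private theorem ent16 (s : Fin 96) (c : Fin 17) :
    (words.map fun w => tW16 ngN16 stN16 (inN16 clN16 c.val) w s.val).sum = (mZ (cls s) c).toNat :=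
  dig16 (f := fun c => (words.map fun w => tW16 ngN16 stN16 (inN16 clN16 c.val) w s.val).sum)
    (fun c => (List.sum_le_sum fun w _ => tW16_le ngN16 stN16 clN16 c.val w s.val).trans_lt (by decide))
    (fun c => (mZ16 (cls s) c).1)
    ((tD16_pk ngN16 stN16 clN16 (fun k => 256 ^ k) (fun _ => Nat.mod_lt _ (by decide)) words s.val).symm.trans
      ((pk16 s).trans (mP16_eq (cls s)).symm)) c

theorem entries : ∀ (s : Fin 96) (c : Fin 17), tab.tauD (fun _ => 2) words (ind tab c) s = (mZ (tab.cls s) c : ℚ) := by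
  intro s c
  show (words.map fun w => tab.tauW (fun _ => 2) w (ind tab c) s).sum = ((mZ (cls s) c : ℤ) : ℚ)
  rw [← (mZ16 (cls s) c).2, ← ent16, Int.cast_natCast, Nat.cast_list_sum, List.map_map, ind16]
  exact congrArg List.sum (List.map_congr_left fun w _ => tW16_eq _ w s)

/-! ### the three eigenvalues -/

def vA (c : Fin 17) : ℤ := aA.getD c 0
def vB (c : Fin 17) : ℤ := aB.getD c 0
def vC (c : Fin 17) : ℤ := aC.getD c 0
def kA (r c : Fin 17) : ℤ := (cA.getD r []).getD c 0
def kB (r c : Fin 17) : ℤ := (cB.getD r []).getD c 0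
def kC (r c : Fin 17) : ℤ := (cC.getD r []).getD c 0

theorem eigA : ∀ r : Fin 17, ∑ c, mZ r c * vA c = -3 * vA r := by decide +kernel
theorem eigB : ∀ r : Fin 17, ∑ c, mZ r c * vB c = 1 * vB r := by decide +kernel
theorem eigC : ∀ r : Fin 17, ∑ c, mZ r c * vC c = 9 * vC r := by decide +kernel

private noncomputable def _root_.Cfsg.Agent.LsF.fe50e66_7 : {f // @Cfsg.Agent.H195.Dl.F4Tab.kA = f} := ⟨_, by first | (delta Cfsg.Agent.H195.Dl.F4Tab.kA; rewrite [Cfsg.Agent.LsF.getD_eq]; exact rfl) | exact rfl⟩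
private noncomputable def _root_.Cfsg.Agent.LsF.fe50e66_8 : {f // @Cfsg.Agent.H195.Dl.F4Tab.mZ = f} := ⟨_, by first | (delta Cfsg.Agent.H195.Dl.F4Tab.mZ; rewrite [Cfsg.Agent.LsF.getD_eq]; exact rfl) | exact rfl⟩
private noncomputable def _root_.Cfsg.Agent.LsF.fe50e66_12 : {f // @Cfsg.Agent.H195.Dl.F4Tab.vA = f} := ⟨_, by first | (delta Cfsg.Agent.H195.Dl.F4Tab.vA; rewrite [Cfsg.Agent.LsF.getD_eq]; exact rfl) | exact rfl⟩
theorem certA : ∀ r c : Fin 17, ∑ k, kA r k * (mZ k c - if k = c then -3 else 0) =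
    (if r = c then 28672 * 4320 else 0) - if c = tab.cls tab.o then vA r * 4320 else 0 := by (refine of_decide_eq_true ?_; (try (rewrite [Cfsg.Agent.LsF.sumF_pat, Cfsg.Agent.LsF.fe50e66_7.2, Cfsg.Agent.LsF.fe50e66_8.2, Cfsg.Agent.LsF.fe50e66_12.2, Cfsg.Agent.LsF.iadd_pat, Cfsg.Agent.LsF.imul_pat, Cfsg.Agent.LsF.isub_pat, Cfsg.Agent.LsF.ineg_pat, Cfsg.Agent.LsF.iACM_eq, Cfsg.Agent.LsF.instIDecEq_eq, Cfsg.Agent.LsF.dForallFin_eq, Cfsg.Agent.LsF.ite_eq, Cfsg.Agent.LsF.decide_eq])); decide +kernel)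

private noncomputable def _root_.Cfsg.Agent.LsF.fe50e66_13 : {f // @Cfsg.Agent.H195.Dl.F4Tab.kB = f} := ⟨_, by first | (delta Cfsg.Agent.H195.Dl.F4Tab.kB; rewrite [Cfsg.Agent.LsF.getD_eq]; exact rfl) | exact rfl⟩
private noncomputable def _root_.Cfsg.Agent.LsF.fe50e66_14 : {f // @Cfsg.Agent.H195.Dl.F4Tab.vB = f} := ⟨_, by first | (delta Cfsg.Agent.H195.Dl.F4Tab.vB; rewrite [Cfsg.Agent.LsF.getD_eq]; exact rfl) | exact rfl⟩
theorem certB : ∀ r c : Fin 17, ∑ k, kB r k * (mZ k c - if k = c then 1 else 0) =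
    (if r = c then 258048 * 5576 else 0) - if c = tab.cls tab.o then vB r * 5576 else 0 := by (refine of_decide_eq_true ?_; (try (rewrite [Cfsg.Agent.LsF.sumF_pat, Cfsg.Agent.LsF.fe50e66_13.2, Cfsg.Agent.LsF.fe50e66_8.2, Cfsg.Agent.LsF.fe50e66_14.2, Cfsg.Agent.LsF.iadd_pat, Cfsg.Agent.LsF.imul_pat, Cfsg.Agent.LsF.isub_pat, Cfsg.Agent.LsF.iACM_eq, Cfsg.Agent.LsF.instIDecEq_eq, Cfsg.Agent.LsF.dForallFin_eq, Cfsg.Agent.LsF.ite_eq, Cfsg.Agent.LsF.decide_eq])); decide +kernel)

private noncomputable def _root_.Cfsg.Agent.LsF.fe50e66_15 : {f // @Cfsg.Agent.H195.Dl.F4Tab.kC = f} := ⟨_, by first | (delta Cfsg.Agent.H195.Dl.F4Tab.kC; rewrite [Cfsg.Agent.LsF.getD_eq]; exact rfl) | exact rfl⟩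
private noncomputable def _root_.Cfsg.Agent.LsF.fe50e66_16 : {f // @Cfsg.Agent.H195.Dl.F4Tab.vC = f} := ⟨_, by first | (delta Cfsg.Agent.H195.Dl.F4Tab.vC; rewrite [Cfsg.Agent.LsF.getD_eq]; exact rfl) | exact rfl⟩
theorem certC : ∀ r c : Fin 17, ∑ k, kC r k * (mZ k c - if k = c then 9 else 0) =
    (if r = c then 86016 * 2640 else 0) - if c = tab.cls tab.o then vC r * 2640 else 0 := by (refine of_decide_eq_true ?_; (try (rewrite [Cfsg.Agent.LsF.sumF_pat, Cfsg.Agent.LsF.fe50e66_15.2, Cfsg.Agent.LsF.fe50e66_8.2, Cfsg.Agent.LsF.fe50e66_16.2, Cfsg.Agent.LsF.iadd_pat, Cfsg.Agent.LsF.imul_pat, Cfsg.Agent.LsF.isub_pat, Cfsg.Agent.LsF.iACM_eq, Cfsg.Agent.LsF.instIDecEq_eq, Cfsg.Agent.LsF.dForallFin_eq, Cfsg.Agent.LsF.ite_eq, Cfsg.Agent.LsF.decide_eq])); decide +kernel)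

theorem sumA : (519792 : ℤ) * ∑ s, (wt s : ℤ) * vA (tab.cls s) ^ 2 = 28672 ^ 2 * ∑ s, (wt s : ℤ) := by decide +kernel
theorem sumB : (947700 : ℤ) * ∑ s, (wt s : ℤ) * vB (tab.cls s) ^ 2 = 258048 ^ 2 * ∑ s, (wt s : ℤ) := by decide +kernel
theorem sumC : (584766 : ℤ) * ∑ s, (wt s : ℤ) * vC (tab.cls s) ^ 2 = 86016 ^ 2 * ∑ s, (wt s : ℤ) := by decide +kernel

end Cfsg.Agent.H195.Dl.F4Tab
end

-- part: H195/Dl/F4Two
section
/-!
# `F₄(2)`, `p = 2`, for S4769 (helper195)

Four characters of even degree: `519792`, `947700`, `584766` (constituents of the permutation character on the cosets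
of the second maximal parabolic subgroup) and the Steinberg character.
-/

set_option autoImplicit false
set_option linter.unusedSectionVars false

namespace Cfsg.Agent.H195.Dl.F4Two

open Cfsg Cfsg.Agent.H967.Sph Cfsg.Agent.H195.Dl.F4Tab Cfsg.Agent.H195.Dl.TabLin Cfsg.Agent.H246.Dl
open CoxeterSystem Cfsg.Agent.ChevalleyStructure.CoxeterGeom Cfsg.Agent.Tits.Roots Cfsg.Agent.Tits.Core
  Cfsg.Agent.Tits.RootComb Cfsg.Agent.Nodes.Comb Cfsg.Agent.Nodes.Reps Cfsg.Agent.Nodes.BNOf
  Cfsg.Agent.Nodes.Bruhat Cfsg.Agent.Nodes.LeviDec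
open Cfsg.Lie Cfsg.Agent.ChevalleyStructure Cfsg.Agent.ChevalleyStructure.Elts
  Cfsg.Agent.ChevalleyStructure.RootVec Cfsg.Agent.ChevalleyStructure.RootVecTab
  Cfsg.Agent.ChevalleyStructure.NPerm Cfsg.Agent.ChevalleyStructure.CoxeterGeomTypes
open Cfsg.Agent.Nodes Cfsg.Agent.Nodes.RGDChev

universe u

section machine

variable {W : Type*} {Y : Type u} [Group W] [Finite W] [Group Y] [Finite Y]
    {M : CoxeterMatrix (Fin 4)} {cs : CoxeterSystem M W} {h : IsCartan M (cartanOf Lie.chevF4 4)} {p : ℕ}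
    {T : Subgroup Y} {n : Fin 4 → Y} {X : (Fin 4 → ℤ) → Subgroup Y} (R : RGD cs h p T n X) (hG : GG cs h T X = ⊤)
    (hq : ∀ i, Nat.card (X (sr i)) = 2)

include R hG hq

theorem exists_deg (la e θ : ℤ) (v : Fin 17 → ℤ) (C : Fin 17 → Fin 17 → ℤ) (d : ℕ) (hla : la ≠ 0) (he : e ≠ 0)
    (hv : v (tab.cls tab.o) = la) (h1 : ∀ r, ∑ c, mZ r c * v c = θ * v r)
    (h2 : ∀ r c, ∑ k, C r k * (mZ k c - if k = c then θ else 0) =
      (if r = c then la * e else 0) - if c = tab.cls tab.o then v r * e else 0)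
    (h3 : (d : ℤ) * ∑ s, (wt s : ℤ) * v (tab.cls s) ^ 2 = la ^ 2 * ∑ s, (wt s : ℤ)) :
    ∃ χ : Y → ℂ, IsIrrCharacter Y χ ∧ χ 1 = d := by
  have hla' : (la : ℚ) ≠ 0 := by exact_mod_cast hla
  have h4 : (d : ℚ) * ∑ s, (wt s : ℚ) * (v (tab.cls s) : ℚ) ^ 2 = (la : ℚ) ^ 2 * ∑ s, (wt s : ℚ) := by
    exact_mod_cast h3
  obtain ⟨χ, k1, -, k3⟩ := exists_char R hG tab (fun _ => 2) hq words (θ : ℚ) (fun c => (v c : ℚ) / la)
    (by
      show ((v (tab.cls tab.o) : ℤ) : ℚ) / la = 1
      rw [hv, div_self hla'])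
    (fun s => eig_of_cert entries h1 s)
    (fun b hb c => uniq_of_cert entries cls_crep hla he h2 b hb c) wt wt_o wt_st d
    (by
      have h5 : ∑ s, (wt s : ℚ) * ((v (tab.cls s) : ℚ) / la) ^ 2 =
          (∑ s, (wt s : ℚ) * (v (tab.cls s) : ℚ) ^ 2) / la ^ 2 := by
        rw [Finset.sum_div]
        exact Finset.sum_congr rfl fun s _ => by rw [div_pow]; ring
      show (d : ℚ) * ∑ s, (wt s : ℚ) * ((v (tab.cls s) : ℚ) / la) ^ 2 = _
      rw [h5, ← mul_div_assoc, h4, mul_div_cancel_left₀ _ (pow_ne_zero 2 hla')])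
  exact ⟨χ, k1, k3⟩

theorem exists_A : ∃ χ : Y → ℂ, IsIrrCharacter Y χ ∧ χ 1 = (519792 : ℕ) :=
  exists_deg R hG hq 28672 4320 (-3) vA kA 519792 (by norm_num) (by norm_num) (by decide +kernel) eigA certA
    (by exact_mod_cast sumA)

theorem exists_B : ∃ χ : Y → ℂ, IsIrrCharacter Y χ ∧ χ 1 = (947700 : ℕ) :=
  exists_deg R hG hq 258048 5576 1 vB kB 947700 (by norm_num) (by norm_num) (by decide +kernel) eigB certB
    (by exact_mod_cast sumB)

theorem exists_C : ∃ χ : Y → ℂ, IsIrrCharacter Y χ ∧ χ 1 = (584766 : ℕ) :=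
  exists_deg R hG hq 86016 2640 9 vC kC 584766 (by norm_num) (by norm_num) (by decide +kernel) eigC certC
    (by exact_mod_cast sumC)

theorem many [IsSimpleGroup Y] (hp : p = 2) (hgen : RGD.B cs h T X ⊔ NN cs R.nsys = ⊤) : Many 2 Y 4 := by
  subst hp
  have hp2 : Fact (Nat.Prime 2) := ⟨Nat.prime_two⟩
  obtain ⟨χ, hχ, hst⟩ := H163.Steinberg.exists_irr_of_hasSplit (FixBN.SplitRGD.hasSplit_of_rgd Nat.prime_two R hgen)
  have Q : Sylow 2 Y := default
  have k1 := (hst Q).1
  have h2 : 2 ∣ Nat.card Y := by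
    rw [← hq 0]
    exact Subgroup.card_subgroup_dvd_card _
  have h2Q : 2 ∣ Nat.card Q := Q.dvd_card_of_dvd_card h2
  have h3Q : ¬ 3 ∣ Nat.card Q := by
    obtain ⟨e, he⟩ := (IsPGroup.iff_card (p := 2)).1 Q.2
    rw [he]
    intro h3
    exact absurd (Nat.prime_three.dvd_of_dvd_pow h3) (by norm_num)
  have hne : ∀ d ∈ ({519792, 947700, 584766} : Finset ℕ), d ≠ Nat.card Q := by
    intro d hd he
    apply h3Q
    rw [← he]
    simp only [Finset.mem_insert, Finset.mem_singleton] at hd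
    rcases hd with rfl | rfl | rfl <;> norm_num
  have h1 : ∀ d ∈ insert (Nat.card Q) ({519792, 947700, 584766} : Finset ℕ), 2 ∣ d ∧ ∃ χ : Y → ℂ,
      IsIrrCharacter Y χ ∧ χ 1 = d := by
    intro d hd
    rw [Finset.mem_insert] at hd
    rcases hd with rfl | hd
    · exact ⟨h2Q, χ, hχ, k1⟩
    simp only [Finset.mem_insert, Finset.mem_singleton] at hd
    rcases hd with rfl | rfl | rfl
    · exact ⟨by norm_num, exists_A R hG hq⟩
    · exact ⟨by norm_num, exists_B R hG hq⟩
    · exact ⟨by norm_num, exists_C R hG hq⟩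
  have hc : (insert (Nat.card Q) ({519792, 947700, 584766} : Finset ℕ)).card = 4 := by
    rw [Finset.card_insert_of_notMem (fun h => hne _ h rfl)]
    rfl
  have := Many.of_finset h1
  rwa [hc] at this

end machine

/-- the order of a root group -/
theorem card_XX {D : ChevalleyDatum} {l : ℕ} {M : CoxeterMatrix (Fin l)} (hp : IsType D l M) (K : Type u) [Field K]
    {W : Type*} [Group W] (cs : CoxeterSystem M W) {x : Fin l → ℤ} (hx : IsRoot cs hp.isCartan x) :
    Nat.card ↥((XV D l K x).subgroupOf (D.group K)) = Nat.card K := by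
  rw [Nat.card_congr (Subgroup.subgroupOfEquivOfLe (XV_le_group hp x)).toEquiv]
  obtain ⟨r, hr, rfl⟩ := (isRoot_iff hp cs x).1 hx
  rw [XV_vec hp K hr]
  symm
  refine Nat.card_congr (Equiv.ofBijective (fun t : K => (⟨xG hp.inList r t,
    xG_mem_rootSubgroup hp.inList r t⟩ : ↥(D.rootSubgroup K r))) ⟨?_, ?_⟩)
  · intro t u e
    exact xG_injective hp.inList hr (congrArg Subtype.val e)
  · rintro ⟨g, hg⟩
    obtain ⟨t, rfl⟩ := (mem_rootSubgroup_iff hp.inList r g).1 hg
    exact ⟨t, rfl⟩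

theorem many_F4 {F : Type u} [Field F] [Finite F] (hF : Nat.card F = 2) (hs : IsSimpleGroup ↥(Lie.chevF4.group F)) :
    Many 2 ↥(Lie.chevF4.group F) 4 := by
  have : Fintype F := Fintype.ofFinite F
  have hp2 : Fact (Nat.Prime 2) := ⟨Nat.prime_two⟩
  have hch : CharP F 2 := Cfsg.Agent.H71.Dl.charP_two_of_card (m := 1) (by rw [← Nat.card_eq_fintype_card, hF]; rfl)
  have hfin : Finite ↥(Lie.chevF4.group F) := inferInstance
  have hp := Cfsg.Agent.H71.Dl.hpF4
  have hW := finite_W hp CoxeterMatrix.F₄.toCoxeterSystem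
  have R := rgd (K := F) hp CoxeterMatrix.F₄.toCoxeterSystem 2
  have hG : GG CoxeterMatrix.F₄.toCoxeterSystem hp.isCartan
      ((Lie.chevF4.diagonalSubgroup F).subgroupOf (Lie.chevF4.group F))
      (fun x => (XV Lie.chevF4 4 F x).subgroupOf (Lie.chevF4.group F)) = ⊤ := by
    rw [eq_top_iff, ← G1_eq_top hp CoxeterMatrix.F₄.toCoxeterSystem]
    exact le_sup_right
  refine many R hG (fun i => ?_) rfl ?_
  · rw [card_XX hp F CoxeterMatrix.F₄.toCoxeterSystem (isRoot_sr _ _ i), hF]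
  · rw [eq_top_iff, ← G1_eq_top hp CoxeterMatrix.F₄.toCoxeterSystem]
    exact RGDLib.rgd_G1_le R

/-- **`F₄(2)`, `p = 2`.** -/
theorem row_two {S : Type*} [Group S] [Finite S] [IsSimpleGroup S] {F : Type u} [Field F] [Finite F]
    (hF : Nat.card F = 2) (e : S ≃* ↥(Lie.chevF4.group F)) : Row 2 S := by
  have : Fintype F := Fintype.ofFinite F
  have hp2 : Fact (Nat.Prime 2) := ⟨Nat.prime_two⟩
  have hch : CharP F 2 := Cfsg.Agent.H71.Dl.charP_two_of_card (m := 1) (by rw [← Nat.card_eq_fintype_card, hF]; rfl)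
  have hs : IsSimpleGroup ↥(Lie.chevF4.group F) := e.symm.isSimpleGroup
  exact Row.of_le (Cfsg.Agent.H71.Dl.dl_eq_F4 e) (Many.of_equiv e (many_F4 hF hs)) le_rfl

end Cfsg.Agent.H195.Dl.F4Two
end

-- part: H352/Dl/Alt
section
/-!
# The alternating groups for `FactDl` (task DL-ALT, helper352)

`row_alt`, `row_alt'` : the derived length of a Sylow `p`-subgroup of `A_n` is at most the number of
`Aut`-orbits of irreducible characters of degree divisible by `p`.
-/

set_option autoImplicit false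

namespace Cfsg.Agent.H352.Dl

open Cfsg Cfsg.Agent.H246.Dl Cfsg.Agent.H654.Two Cfsg.Agent.H600.AltDeg Cfsg.Agent.Characters.Core

/-- Many characters from characters with pairwise different invariants. -/
theorem many_of_has {n : ℕ} (hn : 7 ≤ n) {p m : ℕ} (Q : Fin m → ℤ) (hQ : Function.Injective Q)
    (h : ∀ i, Has p n (Q i)) : Many p (alternatingGroup (Fin n)) m := by
  choose θ h1 h2 using h
  refine ⟨θ, h2, fun i j hij σ => ?_⟩
  by_contra hno
  push Not at hno
  obtain ⟨g, hg⟩ := (Equiv.Perm.exists_with_cycleType_iff (α := Fin n) (m := {3})).2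
    ⟨by rw [Fintype.card_fin]; simp; omega, by simp⟩
  have hg3 : g.IsThreeCycle := hg
  have hgA : g ∈ alternatingGroup (Fin n) := hg3.mem_alternatingGroup
  have e1 := h1 i (σ ⟨g, hgA⟩) (Cfsg.Agent.StandardComponent.AltAut.isThreeCycle_map hn σ hg3)
  have e2 := h1 j ⟨g, hgA⟩ hg3
  rw [hno, e2] at e1
  have h3 : (θ i : alternatingGroup (Fin n) → ℂ) 1 = (θ j : alternatingGroup (Fin n) → ℂ) 1 := by
    rw [← hno 1, map_one]
  rw [h3] at e1
  have h4 : (θ j : alternatingGroup (Fin n) → ℂ) 1 ≠ 0 := by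
    obtain ⟨k, hk0, hk⟩ := isIrr_apply_one (θ j).2
    rw [hk]
    exact_mod_cast Nat.pos_iff_ne_zero.1 hk0
  apply hij
  apply hQ
  have h5 := mul_right_cancel₀ h4 e1
  exact_mod_cast h5.symm

/-- A family of beta-sets `{a, b i, c i}` with `b i < c i`, `b` strictly increasing. -/
theorem many_family {n : ℕ} (hn : 7 ≤ n) {p m : ℕ} (a : ℕ) (b c : Fin m → ℕ) (hs : ∀ i, a + b i + c i = n + 3)
    (hbc : ∀ i j, b i < c j) (hb : Function.Injective b) (h5 : n + 3 ≠ a + 5)
    (h : ∀ i, Has p n (QQ a (b i) (c i))) : Many p (alternatingGroup (Fin n)) m := by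
  refine many_of_has hn (fun i => QQ a (b i) (c i)) ?_ h
  intro i j hij
  by_contra hne
  have h1 := hs i
  have h2 := hs j
  have h3 := hbc i j
  have h4 : b i ≠ b j := fun h => hne (hb h)
  exact QQ_ne (a := a) (b := b i) (c := c i) (b' := b j) (c' := c j) (by omega) (by (clear * - h5 h1; omega)) h4 (by omega) hij

theorem many_odd {n p k : ℕ} (hn : 7 ≤ n) (hp : p.Prime) (hp2 : Odd p) (h : p * (2 * k + 3) < n + 6) :
    Many p (alternatingGroup (Fin n)) k := by
  have hp3 : 3 ≤ p := by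
    have := hp.two_le
    obtain ⟨x, hx⟩ := hp2
    omega
  have hmul : ∀ i j : Fin k, p * ((i : ℕ) + 2) + p * ((j : ℕ) + 3) ≤ p * (2 * k + 3) := by
    intro i j
    rw [← Nat.mul_add]
    exact Nat.mul_le_mul_left p (by omega)
  have hb2 : ∀ i : Fin k, p * ((i : ℕ) + 2) = p * i + 2 * p := fun i => by ring
  have hb3 : ∀ i : Fin k, p * ((i : ℕ) + 3) = p * i + 3 * p := fun i => by ring
  refine many_family hn (p - 1) (fun i => p * ((i : ℕ) + 2) - 1) (fun i => n + 5 - p * ((i : ℕ) + 3)) ?_ ?_ ?_ ?_ ?_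
  · intro i
    have h1 := hmul i i
    have h2 := hb2 i
    have h3 := hb3 i
    show p - 1 + (p * ((i : ℕ) + 2) - 1) + (n + 5 - p * ((i : ℕ) + 3)) = n + 3
    omega
  · intro i j
    have h1 := hmul i j
    have h2 := hb2 i
    show p * ((i : ℕ) + 2) - 1 < n + 5 - p * ((j : ℕ) + 3)
    omega
  · intro i j hij
    have h2 := hb2 i
    have h3 := hb2 j
    have h4 : p * ((i : ℕ) + 2) - 1 = p * ((j : ℕ) + 2) - 1 := hij
    have h5 : p * (i : ℕ) = p * (j : ℕ) := by omega
    exact Fin.ext (Nat.eq_of_mul_eq_mul_left hp.pos h5)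
  · have : p ≤ p * (2 * k + 3) := Nat.le_mul_of_pos_right p (by omega)
    rcases Nat.eq_zero_or_pos k with hk | hk
    · subst hk
      omega
    · have : p * 5 ≤ p * (2 * k + 3) := Nat.mul_le_mul_left p (by omega)
      omega
  · intro i
    have h1 := hmul i i
    have h2 := hb2 i
    have h3 := hb3 i
    have h4 : 0 < p * ((i : ℕ) + 2) := by positivity
    have e1 : (p - 1) % p = p - 1 := Nat.mod_eq_of_lt (by omega)
    have e2 : (p * ((i : ℕ) + 2) - 1) % p = p - 1 := sub_mod_of (dvd_mul_right _ _) h4 (by omega) (by omega)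
    refine has_gd (by omega) hp hp2 (by omega) (by omega) (by omega) (by omega) ?_
    unfold Gd np
    rw [e1, e2, if_pos rfl]
    have h6 : p * 1 ≤ p * (1 + (if p - 1 = (n + 5 - p * ((i : ℕ) + 3)) % p then 1 else 0) +
        (if p - 1 = (n + 5 - p * ((i : ℕ) + 3)) % p then 1 else 0)) := Nat.mul_le_mul_left p (by omega)
    omega

theorem many_two_even {n k : ℕ} (hn : 9 < n) (he : n % 2 = 0) (h : 4 * k + 3 < n) :
    Many 2 (alternatingGroup (Fin n)) k := by
  refine many_family (by omega) 1 (fun i => 3 + 2 * (i : ℕ)) (fun i => n - 1 - 2 * (i : ℕ)) ?_ ?_ ?_ ?_ ?_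
  · intro i
    show 1 + (3 + 2 * (i : ℕ)) + (n - 1 - 2 * (i : ℕ)) = n + 3
    (clear * - h; omega)
  · intro i j
    show 3 + 2 * (i : ℕ) < n - 1 - 2 * (j : ℕ)
    omega
  · intro i j hij
    have h4 : 3 + 2 * (i : ℕ) = 3 + 2 * (j : ℕ) := hij
    exact Fin.ext (by omega)
  · omega
  · intro i
    have hi := i.2
    by_cases h0 : (i : ℕ) = 0
    · exact has_two (a := 1) (L := n - 6) (by omega) (by omega) (by omega) (by omega) (by omega) (by omega)
        (by omega) (by omega) (by rw [Nat.even_iff]; omega) (by omega)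
        (crit Nat.prime_two (by omega) (by omega) (by omega) (by omega)
          (Gd_res (x := 1) (y := 1) (z := 1) rfl (by omega) (by (clear * - he h h0; omega)) (by decide)))
    · exact has_two (a := 1) (L := n - 4 - 2 * (i : ℕ)) (by omega) (by omega) (by omega) (by omega) (by omega)
        (by omega) (by (clear * - h; omega)) (by omega) (by rw [Nat.even_iff]; omega) (by omega)
        (crit Nat.prime_two (by omega) (by omega) (by omega) (by omega)
          (Gd_res (x := 1) (y := 1) (z := 1) rfl (by omega) (by (clear * - he h; omega)) (by decide)))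

theorem many_two_odd {n k : ℕ} (hn : 7 ≤ n) (he : n % 2 = 1) (h : 4 * k ≤ n) :
    Many 2 (alternatingGroup (Fin n)) k := by
  refine many_family (by omega) 0 (fun i => 2 + 2 * (i : ℕ)) (fun i => n + 1 - 2 * (i : ℕ)) ?_ ?_ ?_ ?_ ?_
  · intro i
    show 0 + (2 + 2 * (i : ℕ)) + (n + 1 - 2 * (i : ℕ)) = n + 3
    omega
  · intro i j
    show 2 + 2 * (i : ℕ) < n + 1 - 2 * (j : ℕ)
    omega
  · intro i j hij
    have h4 : 2 + 2 * (i : ℕ) = 2 + 2 * (j : ℕ) := hij
    exact Fin.ext (by omega)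
  · omega
  · intro i
    have hi := i.2
    by_cases h0 : (i : ℕ) = 0
    · exact has_two (a := 0) (L := n - 3) (by omega) (by omega) (by omega) (by omega) (by omega) (by omega)
        (by omega) (by omega) (by rw [Nat.even_iff]; omega) (by omega)
        (crit Nat.prime_two (by omega) (by omega) (by omega) (by omega)
          (Gd_res (x := 0) (y := 0) (z := 0) rfl (by omega) (by omega) (by decide)))
    · exact has_two (a := 0) (L := n - 1 - 2 * (i : ℕ)) (by omega) (by omega) (by omega) (by omega) (by (clear * - h; omega))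
        (by omega) (by omega) (by omega) (by rw [Nat.even_iff]; omega) (by omega)
        (crit Nat.prime_two (by omega) (by omega) (by omega) (by omega)
          (Gd_res (x := 0) (y := 0) (z := 0) rfl (by omega) (by omega) (by decide)))

/-! ### small cases -/

theorem many_8 : Many 2 (alternatingGroup (Fin 8)) 3 := by
  refine many_of_has (by norm_num) ![QQ 0 3 8, QQ 0 4 7, QQ 1 3 7] (by decide) ?_
  intro i
  fin_cases i
  · exact has_two (a := 0) (b := 3) (c := 8) (L := 4) (by norm_num) (by decide) (by decide) (by decide)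
      (by decide) (by decide) (by decide) (by decide) (by decide) (by decide)
      (dvd_dg (t := 10) (by decide) (by decide) (by decide) (by decide +kernel))
  · exact has_two (a := 0) (b := 4) (c := 7) (L := 6) (by norm_num) (by decide) (by decide) (by decide)
      (by decide) (by decide) (by decide) (by decide) (by decide) (by decide)
      (dvd_dg (t := 14) (by decide) (by decide) (by decide) (by decide +kernel))
  · exact has_four (a := 1) (b := 3) (c := 7) (by norm_num) (by decide) (by decide) (by decide)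
      (dvd_dg (t := 16) (by decide) (by decide) (by decide) (by decide +kernel))

theorem many_9 : Many 2 (alternatingGroup (Fin 9)) 3 := by
  refine many_of_has (by norm_num) ![QQ 0 2 10, QQ 0 4 8, QQ 0 5 7] (by decide) ?_
  intro i
  fin_cases i
  · exact has_two (a := 0) (b := 2) (c := 10) (L := 4) (by norm_num) (by decide) (by decide) (by decide)
      (by decide) (by decide) (by decide) (by decide) (by decide) (by decide)
      (dvd_dg (t := 4) (by decide) (by decide) (by decide) (by decide +kernel))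
  · exact has_two (a := 0) (b := 4) (c := 8) (L := 6) (by norm_num) (by decide) (by decide) (by decide)
      (by decide) (by decide) (by decide) (by decide) (by decide) (by decide)
      (dvd_dg (t := 24) (by decide) (by decide) (by decide) (by decide +kernel))
  · exact has_two (a := 0) (b := 5) (c := 7) (L := 6) (by norm_num) (by decide) (by decide) (by decide)
      (by decide) (by decide) (by decide) (by decide) (by decide) (by decide)
      (dvd_dg (t := 21) (by decide) (by decide) (by decide) (by decide +kernel))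

theorem many_10 : Many 2 (alternatingGroup (Fin 10)) 3 := by
  refine many_of_has (by norm_num) ![QQ 0 5 8, QQ 1 2 10, QQ 1 3 9] (by decide) ?_
  intro i
  fin_cases i
  · exact has_two (a := 0) (b := 5) (c := 8) (L := 6) (by norm_num) (by decide) (by decide) (by decide)
      (by decide) (by decide) (by decide) (by decide) (by decide) (by decide)
      (dvd_dg (t := 45) (by decide) (by decide) (by decide) (by decide +kernel))
  · exact has_two (a := 1) (b := 2) (c := 10) (L := 4) (by norm_num) (by decide) (by decide) (by decide)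
      (by decide) (by decide) (by decide) (by decide) (by decide) (by decide)
      (dvd_dg (t := 18) (by decide) (by decide) (by decide) (by decide +kernel))
  · exact has_two (a := 1) (b := 3) (c := 9) (L := 4) (by norm_num) (by decide) (by decide) (by decide)
      (by decide) (by decide) (by decide) (by decide) (by decide) (by decide)
      (dvd_dg (t := 80) (by decide) (by decide) (by decide) (by decide +kernel))

theorem many_11 : Many 2 (alternatingGroup (Fin 11)) 3 := by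
  refine many_of_has (by norm_num) ![QQ 0 2 12, QQ 0 3 11, QQ 0 4 10] (by decide) ?_
  intro i
  fin_cases i
  · exact has_two (a := 0) (b := 2) (c := 12) (L := 4) (by norm_num) (by decide) (by decide) (by decide)
      (by decide) (by decide) (by decide) (by decide) (by decide) (by decide)
      (dvd_dg (t := 5) (by decide) (by decide) (by decide) (by decide +kernel))
  · exact has_two (a := 0) (b := 3) (c := 11) (L := 4) (by norm_num) (by decide) (by decide) (by decide)
      (by decide) (by decide) (by decide) (by decide) (by decide) (by decide)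
      (dvd_dg (t := 22) (by decide) (by decide) (by decide) (by decide +kernel))
  · exact has_two (a := 0) (b := 4) (c := 10) (L := 8) (by norm_num) (by decide) (by decide) (by decide)
      (by decide) (by decide) (by decide) (by decide) (by decide) (by decide)
      (dvd_dg (t := 55) (by decide) (by decide) (by decide) (by decide +kernel))

theorem many_12 : Many 2 (alternatingGroup (Fin 12)) 3 := by
  refine many_of_has (by norm_num) ![QQ 0 3 12, QQ 0 4 11, QQ 0 7 8] (by decide) ?_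
  intro i
  fin_cases i
  · exact has_two (a := 0) (b := 3) (c := 12) (L := 4) (by norm_num) (by decide) (by decide) (by decide)
      (by decide) (by decide) (by decide) (by decide) (by decide) (by decide)
      (dvd_dg (t := 27) (by decide) (by decide) (by decide) (by decide +kernel))
  · exact has_two (a := 0) (b := 4) (c := 11) (L := 6) (by norm_num) (by decide) (by decide) (by decide)
      (by decide) (by decide) (by decide) (by decide) (by decide) (by decide)
      (dvd_dg (t := 77) (by decide) (by decide) (by decide) (by decide +kernel))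
  · exact has_four (a := 0) (b := 7) (c := 8) (by norm_num) (by decide) (by decide) (by decide)
      (dvd_dg (t := 33) (by decide) (by decide) (by decide) (by decide +kernel))

theorem many_14 : Many 2 (alternatingGroup (Fin 14)) 3 := by
  refine many_of_has (by norm_num) ![QQ 1 2 14, QQ 1 3 13, QQ 1 4 12] (by decide) ?_
  intro i
  fin_cases i
  · exact has_two (a := 1) (b := 2) (c := 14) (L := 4) (by norm_num) (by decide) (by decide) (by decide)
      (by decide) (by decide) (by decide) (by decide) (by decide) (by decide)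
      (dvd_dg (t := 39) (by decide) (by decide) (by decide) (by decide +kernel))
  · exact has_two (a := 1) (b := 3) (c := 13) (L := 4) (by norm_num) (by decide) (by decide) (by decide)
      (by decide) (by decide) (by decide) (by decide) (by decide) (by decide)
      (dvd_dg (t := 280) (by decide) (by decide) (by decide) (by decide +kernel))
  · exact has_two (a := 1) (b := 4) (c := 12) (L := 6) (by norm_num) (by decide) (by decide) (by decide)
      (by decide) (by decide) (by decide) (by decide) (by decide) (by decide)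
      (dvd_dg (t := 1001) (by decide) (by decide) (by decide) (by decide +kernel))

theorem many_16 : Many 2 (alternatingGroup (Fin 16)) 4 := by
  refine many_of_has (by norm_num) ![QQ 0 3 16, QQ 0 4 15, QQ 0 5 14, QQ 0 6 13] (by decide) ?_
  intro i
  fin_cases i
  · exact has_two (a := 0) (b := 3) (c := 16) (L := 4) (by norm_num) (by decide) (by decide) (by decide)
      (by decide) (by decide) (by decide) (by decide) (by decide) (by decide)
      (dvd_dg (t := 52) (by decide) (by decide) (by decide) (by decide +kernel))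
  · exact has_two (a := 0) (b := 4) (c := 15) (L := 6) (by norm_num) (by decide) (by decide) (by decide)
      (by decide) (by decide) (by decide) (by decide) (by decide) (by decide)
      (dvd_dg (t := 220) (by decide) (by decide) (by decide) (by decide +kernel))
  · exact has_two (a := 0) (b := 5) (c := 14) (L := 6) (by norm_num) (by decide) (by decide) (by decide)
      (by decide) (by decide) (by decide) (by decide) (by decide) (by decide)
      (dvd_dg (t := 630) (by decide) (by decide) (by decide) (by decide +kernel))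
  · exact has_two (a := 0) (b := 6) (c := 13) (L := 8) (by norm_num) (by decide) (by decide) (by decide)
      (by decide) (by decide) (by decide) (by decide) (by decide) (by decide)
      (dvd_dg (t := 1274) (by decide) (by decide) (by decide) (by decide +kernel))

theorem many_18 : Many 2 (alternatingGroup (Fin 18)) 4 := by
  refine many_of_has (by norm_num) ![QQ 0 5 16, QQ 0 6 15, QQ 0 7 14, QQ 0 8 13] (by decide) ?_
  intro i
  fin_cases i
  · exact has_two (a := 0) (b := 5) (c := 16) (L := 6) (by norm_num) (by decide) (by decide) (by decide)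
      (by decide) (by decide) (by decide) (by decide) (by decide) (by decide)
      (dvd_dg (t := 1122) (by decide) (by decide) (by decide) (by decide +kernel))
  · exact has_two (a := 0) (b := 6) (c := 15) (L := 8) (by norm_num) (by decide) (by decide) (by decide)
      (by decide) (by decide) (by decide) (by decide) (by decide) (by decide)
      (dvd_dg (t := 2754) (by decide) (by decide) (by decide) (by decide +kernel))
  · exact has_two (a := 0) (b := 7) (c := 14) (L := 8) (by norm_num) (by decide) (by decide) (by decide)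
      (by decide) (by decide) (by decide) (by decide) (by decide) (by decide)
      (dvd_dg (t := 4998) (by decide) (by decide) (by decide) (by decide +kernel))
  · exact has_two (a := 0) (b := 8) (c := 13) (L := 10) (by norm_num) (by decide) (by decide) (by decide)
      (by decide) (by decide) (by decide) (by decide) (by decide) (by decide)
      (dvd_dg (t := 6630) (by decide) (by decide) (by decide) (by decide +kernel))

/-! ### assembly -/

theorem pow_bound_two {k : ℕ} (hk : 5 ≤ k) : 4 * k + 3 < 2 ^ k := by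
  induction k, hk using Nat.le_induction with
  | base => norm_num
  | succ k hk ih => rw [pow_succ]; omega

theorem pow_bound_odd {p k : ℕ} (hp : 3 ≤ p) (hk : 3 ≤ k) : p * (2 * k + 3) ≤ p ^ k := by
  induction k, hk using Nat.le_induction with
  | base =>
    have h1 : p ^ 3 = p * (p * p) := by ring
    rw [h1]
    exact Nat.mul_le_mul_left p (by nlinarith)
  | succ k hk ih =>
    rw [pow_succ]
    have h1 : p * (2 * (k + 1) + 3) ≤ p * (2 * k + 3) * p := by
      rw [Nat.mul_assoc]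
      exact Nat.mul_le_mul_left p (by nlinarith only [hp])
    exact h1.trans (Nat.mul_le_mul_right p ih)

theorem many_alt {n p k : ℕ} (hp : p.Prime) (hk : 3 ≤ k) (h : p ^ k ≤ n) (h' : n < p ^ (k + 1)) :
    Many p (alternatingGroup (Fin n)) k := by
  have h8 : 8 ≤ n := by
    have h1 : 2 ^ 3 ≤ p ^ k := (Nat.pow_le_pow_left hp.two_le 3).trans (Nat.pow_le_pow_right hp.pos hk)
    omega
  rcases hp.eq_two_or_odd' with rfl | hp2
  · rcases Nat.lt_or_ge k 5 with h5 | h5
    · obtain rfl | rfl : k = 3 ∨ k = 4 := by omega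
      · norm_num at h h'
        by_cases h1 : n = 8
        · subst h1; exact many_8
        by_cases h2 : n = 9
        · subst h2; exact many_9
        by_cases h3 : n = 10
        · subst h3; exact many_10
        by_cases h4 : n = 11
        · subst h4; exact many_11
        by_cases h5 : n = 12
        · subst h5; exact many_12
        by_cases h6 : n = 14
        · subst h6; exact many_14
        exact many_two_odd (by omega) (by (clear * - h8 h' h1 h3 h5 h6; omega)) (by omega)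
      · norm_num at h h'
        by_cases h1 : n = 16
        · subst h1; exact many_16
        by_cases h2 : n = 18
        · subst h2; exact many_18
        rcases Nat.mod_two_eq_zero_or_one n with h3 | h3
        · exact many_two_even (by omega) h3 (by omega)
        · exact many_two_odd (by omega) h3 (by omega)
    · have h6 := pow_bound_two h5
      rcases Nat.mod_two_eq_zero_or_one n with h3 | h3
      · exact many_two_even (by omega) h3 (by omega)
      · exact many_two_odd (by omega) h3 (by omega)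
  · have hp3 : 3 ≤ p := by
      have := hp.two_le
      obtain ⟨x, hx⟩ := hp2
      omega
    have := pow_bound_odd hp3 hk
    exact many_odd (by omega) hp hp2 (by omega)

/-- `A_5`, `p = 2` -/
theorem dlLe_five : DlLe 2 1 (alternatingGroup (Fin 5)) := by
  have : Fact (Nat.Prime 2) := ⟨Nat.prime_two⟩
  intro P
  have hcard : Nat.card P = 2 ^ 2 := by
    rw [P.card_eq_multiplicity, nat_card_alternatingGroup]
    have : Nat.card (Fin 5) = 5 := by simp
    rw [this]
    have h60 : Nat.factorial 5 / 2 = 60 := by decide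
    rw [h60]
    have : Nat.factorization 60 2 = 2 := by
      rw [Nat.factorization_def 60 Nat.prime_two]
      have : (60 : ℕ) = 2 ^ 2 * 15 := by norm_num
      rw [this, padicValNat.mul (by norm_num) (by norm_num), padicValNat.prime_pow,
        padicValNat.eq_zero_of_not_dvd (by norm_num)]
    rw [this]
  rw [derivedSeries_one, eq_bot_iff, commutator_def, Subgroup.commutator_le]
  intro a _ b _
  rw [Subgroup.mem_bot, commutatorElement_eq_one_iff_mul_comm]
  exact (IsPGroup.isMulCommutative_of_card_eq_prime_sq hcard).is_comm.comm a b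

/-- `A_6`, `p = 2` -/
theorem many_six : Many 2 (alternatingGroup (Fin 6)) 2 := by
  obtain ⟨α, -, hα⟩ := exists_alt_inv (n := 6) (a := 1) (b := 2) (c := 6) (by norm_num) (by norm_num) (by norm_num)
    (by norm_num)
  obtain ⟨β, -, hβ⟩ := exists_alt_inv (n := 6) (a := 1) (b := 3) (c := 5) (by norm_num) (by norm_num) (by norm_num)
    (by norm_num)
  have d1 : dg 6 1 2 6 = 10 := by
    have h := dg_formula (n := 6) (a := 1) (b := 2) (c := 6) (by norm_num) (by norm_num) (by norm_num)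
    generalize dg 6 1 2 6 = x at h ⊢
    norm_num [Nat.factorial] at h
    omega
  have d2 : dg 6 1 3 5 = 16 := by
    have h := dg_formula (n := 6) (a := 1) (b := 3) (c := 5) (by norm_num) (by norm_num) (by norm_num)
    generalize dg 6 1 3 5 = x at h ⊢
    norm_num [Nat.factorial] at h
    omega
  have h1 : charDegree (α : alternatingGroup (Fin 6) → ℂ) = 10 := by
    rcases hα with h | ⟨-, h⟩
    · omega
    · exfalso
      obtain ⟨g, hg⟩ := (Equiv.Perm.exists_with_cycleType_iff (α := Fin 6) (m := {6})).2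
        ⟨by simp, by simp⟩
      have h3 := h g (by
        rw [Equiv.Perm.mem_alternatingGroup, Equiv.Perm.sign_of_cycleType, hg]
        decide)
      refine FM_cycle_ne (n := 6) (a := 1) (b := 2) (c := 6) (L := 6) (by norm_num) (by norm_num) (by norm_num)
        (by norm_num) (by norm_num) (by norm_num) (by norm_num) (by norm_num) ?_
      rw [H614.ty_eq, hg, Fintype.card_fin] at h3
      simpa using h3
  have h2 : charDegree (β : alternatingGroup (Fin 6) → ℂ) = 16 ∨
      charDegree (β : alternatingGroup (Fin 6) → ℂ) = 8 := by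
    rcases hβ with h | ⟨h, -⟩ <;> omega
  refine Many.of_degrees ![α, β] ?_ ?_
  · intro i
    fin_cases i
    · show 2 ∣ charDegree (α : alternatingGroup (Fin 6) → ℂ)
      omega
    · show 2 ∣ charDegree (β : alternatingGroup (Fin 6) → ℂ)
      omega
  · intro i j hij
    fin_cases i <;> fin_cases j
    · rfl
    · have h3 : charDegree (α : alternatingGroup (Fin 6) → ℂ) = charDegree (β : alternatingGroup (Fin 6) → ℂ) := hij
      omega
    · have h3 : charDegree (β : alternatingGroup (Fin 6) → ℂ) = charDegree (α : alternatingGroup (Fin 6) → ℂ) := hij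
      omega
    · rfl

/-- **The alternating groups.** -/
theorem row_alt (n : ℕ) (hn : 5 ≤ n) {p : ℕ} (hp : p.Prime) (hd : p ∣ Nat.card (alternatingGroup (Fin n))) :
    Row p (alternatingGroup (Fin n)) := by
  have hpn := le_of_dvd hp hd
  have : Fact p.Prime := ⟨hp⟩
  have h1 : p ^ Nat.log p n ≤ n := Nat.pow_log_le_self p (by omega)
  have h2 : n < p ^ (Nat.log p n + 1) := Nat.lt_pow_succ_log_self hp.one_lt n
  have hk : 1 ≤ Nat.log p n := Nat.log_pos hp.one_lt hpn
  revert h1 h2 hk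
  generalize Nat.log p n = k
  intro h1 h2 hk
  rcases Nat.lt_or_ge k 3 with h3 | h3
  · obtain rfl | rfl : k = 1 ∨ k = 2 := by omega
    · exact Row.of_im (dlLe_alt h2) (im_alt hn hd)
    · rcases Nat.lt_or_ge n 7 with h7 | h7
      · have hp2 : p = 2 := by
          have := hp.two_le
          by_contra hne
          have : 3 ^ 2 ≤ p ^ 2 := Nat.pow_le_pow_left (by omega) 2
          omega
        subst hp2
        obtain rfl | rfl : n = 5 ∨ n = 6 := by omega
        · exact Row.of_im dlLe_five (im_alt hn hd)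
        · exact ⟨2, dlLe_alt h2, many_six⟩
      · exact Row.of_twoStrict (dlLe_alt h2) (two_alt h7 hp hpn)
  · exact ⟨k, dlLe_alt h2, many_alt hp h3 h1 h2⟩

theorem row_alt' {S : Type*} [Group S] [Finite S] (h : IsAlternating S) {p : ℕ} (hp : p.Prime)
    (hd : p ∣ Nat.card S) : Row p S := by
  obtain ⟨n, hn, ⟨e⟩⟩ := h
  have : Fact p.Prime := ⟨hp⟩
  rw [Nat.card_congr e.toEquiv] at hd
  exact Row.of_equiv e (row_alt n hn hp hd)

end Cfsg.Agent.H352.Dl
end
end

-- part: H669/Dl/J4Full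
section
set_option linter.all false
open scoped Cfsg.Agent.FastGrp

/-!
# S4769: the row of `J4`, all primes, no hypothesis (helper669, task 2519)
-/

set_option autoImplicit false

namespace Cfsg.Agent.H669.Dl.J4

open Cfsg Subgroup Cfsg.Agent.H246.Dl

universe u

/-- **S4769 for `J4`, all primes.** -/
theorem row_j4_full (S : Type u) [Group S] [Finite S] (h : Cfsg.Spor.IsoJ4 S) {p : ℕ} (hp : p.Prime)
    (hd : p ∣ Nat.card S) : Row p S := by
  have : Fact p.Prime := ⟨hp⟩
  obtain ⟨e⟩ := h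
  rw [Nat.card_congr e.toEquiv] at hd
  exact (row_model hp hd fun _ => H651.Two.J4.two p hp hd).of_equiv e

end Cfsg.Agent.H669.Dl.J4
end

-- part: H941/Dl/Fields_mg
section

end

-- part: H246/Dl/Fact
section
prune_inst 0x20103405002202000004001040003c8283000000000b80004104030406808c0300000e2020900300010020a44038000811000030420000000a000600011d00a0888340022234ad0c76000f800100610000000000000000000000000000000000000000000
set_option linter.all false
open scoped Cfsg.Agent.FastGrp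

-- part: H195/Dl/Tits
section
/-!
# The row of the Tits group for S4769 (helper195)
-/

set_option autoImplicit false

namespace Cfsg.Agent.H195.Dl.Tits

open Cfsg Cfsg.Agent.H246.Dl Cfsg.Agent.H759.Dl Cfsg.Agent.H596.OneFacts

universe u

theorem card_tits : Nat.card Cfsg.Lie.TitsGroup = 2 ^ 11 * (3 ^ 3 * 5 ^ 2 * 13) := by
  obtain ⟨-, -, -, hcard⟩ := Cfsg.Agent.S1074.result
  have h3 : Nat.card (commutator ↥(Cfsg.Lie.twistedF4 (ZMod 2) 1)) = 2 ^ 11 * 3 ^ 3 * 5 ^ 2 * 13 := hcard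
  rw [h3]
  norm_num

theorem card_iso {S : Type*} [Group S] (h : Lie.IsoTits S) : Nat.card S = 2 ^ 11 * (3 ^ 3 * 5 ^ 2 * 13) := by
  obtain ⟨e⟩ := h
  rw [← card_tits]
  exact Nat.card_congr e.toEquiv

theorem finite_iso {S : Type*} [Group S] (h : Lie.IsoTits S) : Finite S :=
  Nat.finite_of_card_ne_zero (by rw [card_iso h]; norm_num)

/-- Three orbits of characters of even degree. -/
theorem many_two : Many 2 Cfsg.Lie.TitsGroup 3 := by
  obtain ⟨f⟩ := H707.RowTits.equiv
  have h1 : ∀ d ∈ ({78, 650, 2048} : Finset ℕ), 2 ∣ d ∧ ∃ χ : Cfsg.Lie.TitsGroup → ℂ,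
      IsIrrCharacter Cfsg.Lie.TitsGroup χ ∧ χ 1 = d := by
    have ht : Lie.IsoTits Cfsg.Lie.TitsGroup := ⟨MulEquiv.refl _⟩
    have hT : Finite Cfsg.Lie.TitsGroup := finite_iso ht
    have hc := Cfsg.Agent.SporadicB.RuTits.card_T
    have : Finite ↥Cfsg.Agent.SporadicB.RuTits.T := Nat.finite_of_card_ne_zero (by rw [hc]; norm_num)
    have key : ∀ d : ℕ, (∃ χ : IrrCharacter ↥Cfsg.Agent.SporadicB.RuTits.T, charDegree (χ : ↥Cfsg.Agent.SporadicB.RuTits.T → ℂ) = d) →
        ∃ χ : Cfsg.Lie.TitsGroup → ℂ, IsIrrCharacter Cfsg.Lie.TitsGroup χ ∧ χ 1 = d := by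
      rintro d ⟨χ, hχ⟩
      refine ⟨(χ : _ → ℂ) ∘ f, Characters.Core.isIrr_comp f.toMonoidHom f.surjective χ.2, ?_⟩
      rw [Function.comp_apply, map_one, Blocks.Basic.irr_one_eq_charDegree χ.2, hχ]
    intro d hd
    simp only [Finset.mem_insert, Finset.mem_singleton] at hd
    rcases hd with rfl | rfl | rfl
    · exact ⟨by norm_num, key _ H678.DG.Tits.deg_78⟩
    · exact ⟨by norm_num, key _ H678.DG.Tits.deg_650⟩
    · obtain ⟨χ, hχ⟩ := Cfsg.Agent.H603.FD.TitsRow.mem_2048
      exact ⟨by norm_num, χ, χ.2, by rw [Blocks.Basic.irr_one_eq_charDegree χ.2, hχ]⟩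
  exact Many.of_finset h1

theorem dlLe_two {S : Type*} [Group S] [Finite S] (h : Lie.IsoTits S) : DlLe 2 3 S := by
  have : Fact (Nat.Prime 2) := ⟨Nat.prime_two⟩
  refine (H680.Dl.dlLe_of_card' (a := 11) ?_).1 le_rfl
  rw [card_iso h]
  norm_num

/-- The Tits group, `p = 2`. -/
theorem row_two {S : Type*} [Group S] [Finite S] (h : Lie.IsoTits S) : Row 2 S := by
  have h2 := dlLe_two h
  obtain ⟨e⟩ := h
  have h3 : Many 2 S 3 := Many.of_equiv (S' := Cfsg.Lie.TitsGroup) e many_two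
  exact Row.of_le h2 h3 le_rfl

/-- **The Tits group** (`TwoOr 3` is used for `p = 3`, Itô-Michler for `p = 5, 13`). -/
theorem row_tits (T : FactTwo.{u}) (I : H671.H5.FactIM.{u}) : RowF.{u} (fun S => Lie.IsoTits S) := by
  intro S _ _ _ h p hp hd
  have hc : ¬ IsMulCommutative S := by
    intro hc
    have h1 := card_iso h
    have h2 : (Nat.card S).Prime := by
      let _ : CommGroup S := { (inferInstance : Group S) with mul_comm := hc.1.1 }
      exact IsSimpleGroup.prime_card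
    rw [h1] at h2
    exact absurd h2 (by norm_num)
  have hd' := hd
  rw [card_iso h] at hd'
  have h2 : p = 2 ∨ p = 3 ∨ p = 5 ∨ p = 13 := by
    rcases (Nat.Prime.dvd_mul hp).1 hd' with h3 | h3
    · exact Or.inl ((Nat.prime_dvd_prime_iff_eq hp Nat.prime_two).1 (hp.dvd_of_dvd_pow h3))
    rcases (Nat.Prime.dvd_mul hp).1 h3 with h3 | h3
    · rcases (Nat.Prime.dvd_mul hp).1 h3 with h3 | h3
      · exact Or.inr (Or.inl ((Nat.prime_dvd_prime_iff_eq hp Nat.prime_three).1 (hp.dvd_of_dvd_pow h3)))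
      · exact Or.inr (Or.inr (Or.inl ((Nat.prime_dvd_prime_iff_eq hp Nat.prime_five).1 (hp.dvd_of_dvd_pow h3))))
    · exact Or.inr (Or.inr (Or.inr ((Nat.prime_dvd_prime_iff_eq hp (by norm_num)).1 h3)))
  rcases h2 with rfl | rfl | rfl | rfl
  · exact row_two h
  · refine row_of_dl_two T I hc hp hd ?_
    have : Fact (Nat.Prime 3) := ⟨hp⟩
    refine H680.Dl.dlLe_two (a := 3) (by norm_num) ?_
    rw [card_iso h]
    norm_num
  · refine row_of_card I hc hp hd ?_
    rw [card_iso h]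
    norm_num
  · refine row_of_card I hc hp hd ?_
    rw [card_iso h]
    norm_num

end Cfsg.Agent.H195.Dl.Tits
end

-- part: H70/Dl/Janko
section
/-!
# S4769: the rows of `J₁` and `J₃` (helper70)
-/

set_option autoImplicit false

open Cfsg

namespace Cfsg.Agent.H70.Dl.Janko

open Cfsg.Agent.H246.Dl Cfsg.Agent.H596.OneFacts Cfsg.Agent.H651.Two Cfsg.Agent.H759.Dl Cfsg.Agent.H680.Dl
open Cfsg.Agent.H713.Count Cfsg.Agent.H70.Dl Cfsg.Agent.J3Type.CodeGroup
open Cfsg.Agent.H724.IMJThree (card_j3 exists_ord fac)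
open Cfsg.Agent.H724.IMTool (fus_card_eq)

universe u

/-- **`J₁`** -/
theorem row_j1 (T : FactTwo.{u}) (I : H671.H5.FactIM.{u}) : RowF.{u} (fun S => Spor.IsoJ1 S) := by
  intro S _ _ _ h p hp hd
  have hcard : Nat.card S = 175560 := by
    obtain ⟨e⟩ := h
    rw [Nat.card_congr e.toEquiv, H724.IMJOne.card_j1]
  refine row_of_arith T I hcard (by norm_num) hp hd fun h6 => ?_
  have h7 : p ^ 6 ≤ 175560 := Nat.le_of_dvd (by norm_num) h6
  have h8 : p ≤ 8 := by
    by_contra hcon
    have : 9 ^ 6 ≤ p ^ 6 := Nat.pow_le_pow_left (by omega) 6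
    omega
  have h2 := hp.two_le
  interval_cases p <;> revert h6 <;> norm_num

/-- two classes of elements of order 19 in `J₃` -/
theorem cls_nineteen {K : Type u} [Group K] [Finite K] (h : Spor.IsoJ3 K) : Cls K 19 2 := by
  have h19 : Fact (Nat.Prime 19) := ⟨by norm_num⟩
  obtain ⟨g, hg⟩ := exists_ord h (n := 19) (by decide)
  refine Cls.of_fus hg ?_
  rw [fus_card_eq (p := 19) (e := 9) (c := 1) (fac h (by norm_num) (by norm_num)) hg
    (by rw [H898.J3Cent.card_nineteen h hg]) (by rw [card_j3 h]; decide)]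
  norm_num

theorem classes_j3 {K : Type u} [Group K] [Finite K] (h : Spor.IsoJ3 K) : 13 ≤ Nat.card (ConjClasses K) := by
  obtain ⟨t, D, hD, -⟩ := H417.JThreeCols.exists_coded_iso h
  have h1 := sum_le_classes (G := K) {1, 2, 3, 4, 5, 6, 8, 10, 12, 17, 19} (fun n => if n = 10 ∨ n = 19 then 2 else 1) (by
    intro n hn
    by_cases h10 : n = 10
    · subst h10
      exact Cls.two hD.order10a hD.order10b hD.not_conj
    by_cases h19 : n = 19
    · subst h19
      exact cls_nineteen h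
    · rw [if_neg (by itauto)]
      obtain ⟨g, hg⟩ := exists_ord h hn
      exact Cls.one hg)
  refine le_trans (le_of_eq ?_) h1
  decide

theorem out_j3 {K : Type u} [Group K] (h : Spor.IsoJ3 K) : Nat.card (Out K) ≤ 2 := by
  obtain ⟨F, _, _, ω, hF, hω, h⟩ := h
  exact out_le_two h (S2067.result hF ω hω) (by norm_num)

theorem many_j3 {K : Type u} [Group K] [Finite K] (h : Spor.IsoJ3 K) : Many 2 K 3 := by
  have h2 : Fact (Nat.Prime 2) := ⟨Nat.prime_two⟩
  obtain ⟨t, D, hD, -⟩ := H417.JThreeCols.exists_coded_iso h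
  have h1 := classes_j3 h
  have h3 : Nat.card (Subgroup.centralizer ({D 97} : Set K)) = 2 ^ 3 := by
    rw [hD.card_centralizer (by norm_num) hD.pow8, Cfsg.Agent.J3Type.CodeFacts.card_cm8]
    norm_num
  refine many_of_classes (p := 2) (x := D 97) ⟨3, by rw [hD.order8]; norm_num⟩ h3
    (out_j3 h) (by omega)

/-- **`J₃`** -/
theorem row_j3 (T : FactTwo.{u}) (I : H671.H5.FactIM.{u}) : RowF.{u} (fun S => Spor.IsoJ3 S) := by
  intro S _ _ _ h p hp hd
  have hcard := card_j3 h
  by_cases hp2 : p = 2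
  · subst hp2
    have h2 : Fact (Nat.Prime 2) := ⟨Nat.prime_two⟩
    exact ⟨3, dlLe_three (p := 2) (a := 7) (by norm_num) (by rw [hcard]; norm_num), many_j3 h⟩
  refine row_of_arith T I hcard (by norm_num) hp hd fun h6 => ?_
  have h7 : p ^ 6 ≤ 50232960 := Nat.le_of_dvd (by norm_num) h6
  have h8 : p ≤ 20 := by
    by_contra hcon
    have : 21 ^ 6 ≤ p ^ 6 := Nat.pow_le_pow_left (by omega) 6
    omega
  have h2 := hp.two_le
  interval_cases p <;> first | exact absurd rfl hp2 | (revert h6; norm_num)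

end Cfsg.Agent.H70.Dl.Janko
end

-- part: H70/Dl/HS
section
/-!
# S4769: the row of `HS` (helper70)

On 100 points: `X Y` has order 8 and a centralizer of order at most 16; 20 different (order, cycle type) and two classes
of elements of order 11.
-/

set_option autoImplicit false
set_option maxRecDepth 100000

open Cfsg

namespace Cfsg.Agent.H70.Dl.HS

open Cfsg.Agent.H246.Dl Cfsg.Agent.H596.OneFacts Cfsg.Agent.H651.Two Cfsg.Agent.H759.Dl Cfsg.Agent.H680.Dl
open Cfsg.Agent.H70.Dl Subgroup Equiv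
open Cfsg.Agent.SporadicA.PermTab Cfsg.Agent.HN.HS100 Cfsg.Agent.H852.IMHS Cfsg.Agent.H153.Zeros
open Cfsg.Agent.H724.IMTool (fus_card_eq)

universe u

/-- `X Y`, of order 8 -/
def t8 : ℕ := 0xa2130250470860fc2d0410780ec1f0620c218c2d85005a1642685f0521601402c0840d02402206e0841c82e03e0c00f04e03a0e8158540bc05c228230ac0940a05707a14c0982f02413c2901101e0380b06006a0602300c09202c2e00a0aa0241200d066110080070640540284b03809c0401b0060a81885d0040101b0400020e00d00003201813020
/-- the vertices in increasing order of their rows, restricted to the base -/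
def tO : ℕ := 0x3e0ac1e0310820a8030330a20a0280270840602985a0080bc278190480e800839092110098430a80080b02500e0402f85b02412c0e01508c0b00404e0c20241f82206e1482404503c06c1702601e1540704d0220f4200470c608c2601a05a15c2f0560700d83000b00a0840684a03a1602c8620680a41d8030ba05c2e00a0280c81f03500003018020
/-- its inverse -/
def tR : ℕ := 0x460401b819082074058090801500881203c070150470aa0c82d8590a20e01402107c050258310480ec1804a09015c2f82506a0141306101a1382601b0660680200f0b8018300010a40b40f83a0c41780705a0b00b02204f0440d00b0000c60bc0983d05c080280560141141e0070920fc138420560a40a8020300201b0390861740b85301811826803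

/-! ### The centralizer of an element of order 8 -/

theorem in8x : InG Q t8 := word_of (L := [tX, tY]) (mem3 inX inY inW) (by simp) (by decide +kernel)

/-- the base -/
def F8 : List ℕ := [3, 25, 16, 27, 51, 61, 43, 15]
/-- the rest of the base -/
def bs8 : List (ℕ × ℕ) := [(8, 1), (77, 1), (52, 1), (19, 1), (74, 1), (1, 1), (11, 1)]

theorem chain8 : chainB 100 adjA F8 bs8 = true := by decide +kernel
theorem dist8 : chkDist 100 adjA (maskL (lastF F8 bs8)) tR tO = true := by decide +kernel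

/-- the profile of a point -/
def prof (i : ℕ) : Bool :=
  Nat.beq (bitM 100 adjA i (ev [t8] i)) 1 && (Nat.beq (bitM 100 adjA i (ev [t8, t8] i)) 0 &&
    (Nat.beq (bitM 100 adjA i (ev [t8, t8, t8] i)) 0 && Nat.beq (bitM 100 adjA i (ev [t8, t8, t8, t8] i)) 0))

theorem cnt16 : cntB prof 100 16 = true := by decide +kernel
theorem prof3 : prof 3 = true := by decide +kernel

/-- the profile in terms of the powers of `x` -/
theorem prof_iff {x : Q} (hx : ∀ i : Fin 100, ((x : Perm (Fin 100)) i : ℕ) = lk t8 i) (i : Fin 100) :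
    prof i = true ↔ bitM 100 adjA i ((((x ^ 1 : Q) : Perm (Fin 100)) i : Fin 100) : ℕ) = 1 ∧
      bitM 100 adjA i ((((x ^ 2 : Q) : Perm (Fin 100)) i : Fin 100) : ℕ) = 0 ∧
      bitM 100 adjA i ((((x ^ 3 : Q) : Perm (Fin 100)) i : Fin 100) : ℕ) = 0 ∧
      bitM 100 adjA i ((((x ^ 4 : Q) : Perm (Fin 100)) i : Fin 100) : ℕ) = 0 := by
  rw [pow_of hx, pow_of hx, pow_of hx, pow_of hx]
  unfold prof
  rw [Bool.and_eq_true, Bool.and_eq_true, Bool.and_eq_true, nbq_iff, nbq_iff, nbq_iff, nbq_iff]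
  rfl

theorem prof_smul {x g : Q} (hx : ∀ i : Fin 100, ((x : Perm (Fin 100)) i : ℕ) = lk t8 i) (hg : g * x = x * g)
    {i : Fin 100} (h : prof i = true) : prof ((g : Perm (Fin 100)) i : Fin 100) = true := by
  rw [prof_iff hx] at h ⊢
  have key : ∀ k : ℕ, bitM 100 adjA ((g : Perm (Fin 100)) i : Fin 100)
      ((((x ^ k : Q) : Perm (Fin 100)) ((g : Perm (Fin 100)) i) : Fin 100) : ℕ) =
      bitM 100 adjA i ((((x ^ k : Q) : Perm (Fin 100)) i : Fin 100) : ℕ) := by
    intro k
    have h1 : g * x ^ k = x ^ k * g := ((show Commute g x from hg).pow_right k).eq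
    have h2 : (g : Perm (Fin 100)) (((x ^ k : Q) : Perm (Fin 100)) i) =
        ((x ^ k : Q) : Perm (Fin 100)) ((g : Perm (Fin 100)) i) :=
      congrArg (fun z : Q => (z : Perm (Fin 100)) i) h1
    rw [← h2]
    exact adj_eq i _
  rw [key, key, key, key]
  exact h

/-- **The centralizer of `X Y` has order at most 16.** -/
theorem card_le_16 {x : Q} (hx : ∀ i : Fin 100, ((x : Perm (Fin 100)) i : ℕ) = lk t8 i) :
    Nat.card (centralizer ({x} : Set Q)) ≤ 16 := by
  set H : Subgroup (Perm (Fin 100)) := (centralizer ({x} : Set Q)).map Q.subtype with hH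
  have h1 : Nat.card (centralizer ({x} : Set Q)) = Nat.card H :=
    Nat.card_congr ((centralizer ({x} : Set Q)).equivMapOfInjective _ Q.subtype_injective).toEquiv
  have hcom : ∀ g ∈ H, ∀ i : Fin 100, g i = i → g ((x : Perm (Fin 100)) i) = (x : Perm (Fin 100)) i := by
    rintro _ ⟨g, hg, rfl⟩ i hi
    have h4 : (g : Perm (Fin 100)) ((x : Perm (Fin 100)) i) = (x : Perm (Fin 100)) ((g : Perm (Fin 100)) i) :=
      congrArg (fun z : Q => (z : Perm (Fin 100)) i) (mem_centralizer_singleton_iff.1 hg)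
    show (g : Perm (Fin 100)) ((x : Perm (Fin 100)) i) = _
    rw [h4]
    exact congrArg _ hi
  have hxi : ∀ i j : Fin 100, lk t8 i = j → (x : Perm (Fin 100)) i = j := fun i j h => Fin.ext ((hx i).trans h)
  have hle : H ≤ autG 100 adjA := by
    rintro _ ⟨g, -, rfl⟩
    exact Q_le g.2
  have h6 : Nat.card (ps H 3) ≤ prodC bs8 := by
    refine card_le_of_chain bs8 F8 (ps H 3) ((ps_le _ _).trans hle) ?_ chain8
      (fun g hg h => eq_one_of_dist dist8 g hg h)
    have nx : ∀ i j : Fin 100, lk t8 i = j → (∀ g ∈ ps H 3, g i = i) → ∀ g ∈ ps H 3, g j = j := by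
      intro i j hij h g hg
      have := hcom g hg.1 i (h g hg)
      rwa [hxi i j hij] at this
    have e0 : ∀ g ∈ ps H 3, g 3 = 3 := fun g hg => hg.2
    have e1 := nx 3 25 (by decide +kernel) e0
    have e2 := nx 25 16 (by decide +kernel) e1
    have e3 := nx 16 27 (by decide +kernel) e2
    have e4 := nx 27 51 (by decide +kernel) e3
    have e5 := nx 51 61 (by decide +kernel) e4
    have e6 := nx 61 43 (by decide +kernel) e5
    have e7 := nx 43 15 (by decide +kernel) e6
    intro f hf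
    simp only [F8, List.mem_cons, List.not_mem_nil, or_false] at hf
    rcases hf with rfl | rfl | rfl | rfl | rfl | rfl | rfl | rfl
    · exact ⟨by norm_num, fun g hg i hi => by rw [show i = 3 from Fin.ext hi]; exact e0 g hg⟩
    · exact ⟨by norm_num, fun g hg i hi => by rw [show i = 25 from Fin.ext hi]; exact e1 g hg⟩
    · exact ⟨by norm_num, fun g hg i hi => by rw [show i = 16 from Fin.ext hi]; exact e2 g hg⟩
    · exact ⟨by norm_num, fun g hg i hi => by rw [show i = 27 from Fin.ext hi]; exact e3 g hg⟩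
    · exact ⟨by norm_num, fun g hg i hi => by rw [show i = 51 from Fin.ext hi]; exact e4 g hg⟩
    · exact ⟨by norm_num, fun g hg i hi => by rw [show i = 61 from Fin.ext hi]; exact e5 g hg⟩
    · exact ⟨by norm_num, fun g hg i hi => by rw [show i = 43 from Fin.ext hi]; exact e6 g hg⟩
    · exact ⟨by norm_num, fun g hg i hi => by rw [show i = 15 from Fin.ext hi]; exact e7 g hg⟩
  rw [h1]
  refine (card_le H 3 ((Finset.univ : Finset (Fin 100)).filter (fun i : Fin 100 => prof i = true)) (m := 16)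
    (k := 1) ?_ (card_fin_of_cntB _ 100 16 cnt16) h6).trans (by norm_num)
  rintro _ ⟨g, hg, rfl⟩
  rw [Finset.mem_filter]
  exact ⟨Finset.mem_univ _, prof_smul hx (mem_centralizer_singleton_iff.1 hg) (i := 3) prof3⟩

/-! ### Elements -/

theorem el_of {L : List ℕ} (hL : ∀ P ∈ L, P = tX ∨ P = tY ∨ P = tW) {m : ℕ} (hm : 0 < m) (ps : List ℕ)
    (hps : ∀ p ∈ m.primeFactors, p ∈ ps) (hchk : ordChk 100 L m ps = true) :
    ∃ g : Q, orderOf g = m ∧ ∀ i : Fin 100, ((g : Perm (Fin 100)) i : ℕ) = ev L i := by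
  have h : ∀ P ∈ L, InG Q P := fun P hP => mem3 inX inY inW P (by simpa using hL P hP)
  obtain ⟨g, hg, hgi⟩ := exists_ev L h
  rw [ordChk, band_eq_true, List.all_eq_true] at hchk
  refine ⟨⟨g, hg⟩, orderOf_eq_of_pow_and_pow_div_prime hm ?_ (fun p hp hd => ?_), hgi⟩
  · exact Subtype.ext ((pow_eq_one_iff hgi m).2 hchk.1)
  · intro h1
    have h2 := hchk.2 p (hps p (Nat.mem_primeFactors.2 ⟨hp, hd, hm.ne'⟩))
    rw [(pow_eq_one_iff hgi (m / p)).1 (congrArg Subtype.val h1)] at h2
    exact absurd h2 (by decide)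

/-- the number of fixed points of `g ^ k` -/
noncomputable def fxn (k : ℕ) (g : Q) : ℕ :=
  ((Finset.univ : Finset (Fin 100)).filter fun i => ((g : Perm (Fin 100)) ^ k) i = i).card

theorem fxn_conj {k : ℕ} {a b : Q} (h : IsConj a b) : fxn k a = fxn k b := by
  obtain ⟨c, rfl⟩ := isConj_iff.1 h
  unfold fxn
  refine Finset.card_bij (fun i _ => (c : Perm (Fin 100)) i) ?_ ?_ ?_
  · intro i hi
    rw [Finset.mem_filter] at hi ⊢
    refine ⟨Finset.mem_univ _, ?_⟩
    show ((((c : Perm (Fin 100)) * a * (c : Perm (Fin 100))⁻¹)) ^ k) ((c : Perm (Fin 100)) i) = _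
    have e : (c : Perm (Fin 100))⁻¹ ((c : Perm (Fin 100)) i) = i := Equiv.symm_apply_apply _ _
    rw [conj_pow, Perm.mul_apply, Perm.mul_apply, e, hi.2]
  · intro i _ j _ h
    exact (c : Perm (Fin 100)).injective h
  · intro j hj
    refine ⟨(c : Perm (Fin 100))⁻¹ j, ?_, Equiv.apply_symm_apply (c : Perm (Fin 100)) j⟩
    rw [Finset.mem_filter] at hj ⊢
    refine ⟨Finset.mem_univ _, ?_⟩
    have h2 : ((((c : Perm (Fin 100)) * a * (c : Perm (Fin 100))⁻¹)) ^ k) j = j := hj.2
    rw [conj_pow, Perm.mul_apply, Perm.mul_apply] at h2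
    rw [← Perm.eq_inv_iff_eq] at h2
    exact h2

theorem fxn_eq {g : Q} {L : List ℕ} (hg : ∀ i : Fin 100, ((g : Perm (Fin 100)) i : ℕ) = ev L i) {k m : ℕ}
    (h : cntB (fun i => Nat.beq (itr (ev L) k i) i) 100 m = true) : fxn k g = m := by
  rw [← card_fin_of_cntB _ 100 m h, fxn]
  congr 1
  refine Finset.filter_congr fun i _ => ?_
  rw [nbq_iff, ← Cfsg.Agent.H153.Zeros.pow_eq hg, Fin.ext_iff]

theorem ne_of_fxn {a b : Q} {k m n : ℕ} (ha : fxn k a = m) (hb : fxn k b = n) (h : m ≠ n) : ¬ IsConj a b :=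
  fun hc => h (by rw [← ha, ← hb, fxn_conj hc])

theorem cls1 : Cls Q 1 1 := Cls.one orderOf_one

theorem cls2 : Cls Q 2 2 := by
  obtain ⟨a, ha, ha'⟩ := el_of (L := [tY, tY, tY]) (by simp) (m := 2) (by norm_num) [2] (by decide +kernel) (by decide +kernel)
  obtain ⟨b, hb, hb'⟩ := el_of (L := [tX]) (by simp) (m := 2) (by norm_num) [2] (by decide +kernel) (by decide +kernel)
  exact Cls.two ha hb (ne_of_fxn (k := 1) (m := 20) (n := 0) (fxn_eq ha' (by decide +kernel))
    (fxn_eq hb' (by decide +kernel)) (by norm_num))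

theorem cls4 : Cls Q 4 3 := by
  obtain ⟨a, ha, ha'⟩ := el_of (L := [tX, tY, tX, tY]) (by simp) (m := 4) (by norm_num) [2] (by decide +kernel)
    (by decide +kernel)
  obtain ⟨b, hb, hb'⟩ := el_of (L := [tX, tY, tX, tW, tW]) (by simp) (m := 4) (by norm_num) [2] (by decide +kernel)
    (by decide +kernel)
  obtain ⟨c, hc, hc'⟩ := el_of (L := [tX, tY, tX, tY, tX, tY, tY]) (by simp) (m := 4) (by norm_num) [2] (by decide +kernel)
    (by decide +kernel)
  have h1 : fxn 1 a = 4 := fxn_eq ha' (by decide +kernel)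
  have h2 : fxn 1 b = 8 := fxn_eq hb' (by decide +kernel)
  have h3 : fxn 1 c = 0 := fxn_eq hc' (by decide +kernel)
  exact Cls.three ha hb hc (ne_of_fxn h1 h2 (by norm_num)) (ne_of_fxn h1 h3 (by norm_num)) (ne_of_fxn h2 h3 (by norm_num))

theorem cls5 : Cls Q 5 2 := by
  obtain ⟨a, ha, ha'⟩ := el_of (L := [tY, tW]) (by simp) (m := 5) (by norm_num) [5] (by decide +kernel) (by decide +kernel)
  obtain ⟨b, hb, hb'⟩ := el_of (L := [tX, tY, tY, tX, tY, tY]) (by simp) (m := 5) (by norm_num) [5] (by decide +kernel)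
    (by decide +kernel)
  exact Cls.two ha hb (ne_of_fxn (k := 1) (m := 5) (n := 0) (fxn_eq ha' (by decide +kernel))
    (fxn_eq hb' (by decide +kernel)) (by norm_num))

theorem cls6 : Cls Q 6 2 := by
  obtain ⟨a, ha, ha'⟩ := el_of (L := [tY]) (by simp) (m := 6) (by norm_num) [2, 3] (by decide +kernel) (by decide +kernel)
  obtain ⟨b, hb, hb'⟩ := el_of (L := [tX, tY, tW, tY, tW]) (by simp) (m := 6) (by norm_num) [2, 3] (by decide +kernel)
    (by decide +kernel)
  exact Cls.two ha hb (ne_of_fxn (k := 1) (m := 2) (n := 0) (fxn_eq ha' (by decide +kernel))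
    (fxn_eq hb' (by decide +kernel)) (by norm_num))

theorem cls8 : Cls Q 8 2 := by
  obtain ⟨a, ha, ha'⟩ := el_of (L := [tX, tY, tW]) (by simp) (m := 8) (by norm_num) [2] (by decide +kernel) (by decide +kernel)
  obtain ⟨b, hb, hb'⟩ := el_of (L := [tX, tY]) (by simp) (m := 8) (by norm_num) [2] (by decide +kernel)
    (by decide +kernel)
  exact Cls.two ha hb (ne_of_fxn (k := 1) (m := 2) (n := 0) (fxn_eq ha' (by decide +kernel))
    (fxn_eq hb' (by decide +kernel)) (by norm_num))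

theorem cls10 : Cls Q 10 2 := by
  obtain ⟨a, ha, ha'⟩ := el_of (L := [tX, tY, tX, tY, tY, tW, tY, tW, tY]) (by simp) (m := 10) (by norm_num) [2, 5]
    (by decide +kernel) (by decide +kernel)
  obtain ⟨b, hb, hb'⟩ := el_of (L := [tX, tY, tY]) (by simp) (m := 10) (by norm_num) [2, 5] (by decide +kernel)
    (by decide +kernel)
  exact Cls.two ha hb (ne_of_fxn (k := 5) (m := 20) (n := 0) (fxn_eq ha' (by decide +kernel))
    (fxn_eq hb' (by decide +kernel)) (by norm_num))

theorem cls_one {L : List ℕ} (hL : ∀ P ∈ L, P = tX ∨ P = tY ∨ P = tW) {m : ℕ} (hm : 0 < m) (ps : List ℕ)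
    (hps : ∀ p ∈ m.primeFactors, p ∈ ps) (hchk : ordChk 100 L m ps = true) : Cls Q m 1 := by
  obtain ⟨a, ha, -⟩ := el_of hL hm ps hps hchk
  exact Cls.one ha

theorem cls_prime {p : ℕ} [hp : Fact p.Prime] (h : p ∣ 44352000) : Cls Q p 1 := by
  have hfin : Finite Q := Nat.finite_of_card_ne_zero (by rw [Cfsg.Agent.HN.AutBound.card_Q]; norm_num)
  obtain ⟨x, hx⟩ := exists_prime_orderOf_dvd_card' (G := Q) p (by rw [Cfsg.Agent.HN.AutBound.card_Q]; exact h)
  exact Cls.one hx

theorem cls11 : Cls Q 11 2 := by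
  have hQ : Nat.card Q = 44352000 := Cfsg.Agent.HN.AutBound.card_Q
  obtain ⟨⟨f⟩, hs⟩ := Cfsg.Agent.HN.AutHS.nonempty_Q
  have hiso : Spor.IsoHS Q := ⟨f⟩
  have hfin : Finite Q := Nat.finite_of_card_ne_zero (by rw [hQ]; norm_num)
  have h11 : Fact (Nat.Prime 11) := ⟨by norm_num⟩
  obtain ⟨x, hx⟩ := exists_prime_orderOf_dvd_card' (G := Q) 11 (by rw [hQ]; norm_num)
  refine Cls.of_fus hx ?_
  rw [fus_card_eq (p := 11) (e := 5) (c := 1) ?_ hx (by rw [H904.HSIso.card_eleven hiso hx]) (by rw [hQ]; decide)]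
  · norm_num
  · rw [hQ]
    refine le_antisymm ?_ ((Nat.Prime.dvd_iff_one_le_factorization h11.out (by norm_num)).1 (by norm_num))
    by_contra h
    push Not at h
    have h2 := (Nat.pow_dvd_pow 11 h).trans (Nat.ordProj_dvd 44352000 11)
    exact absurd h2 (by norm_num)

theorem classes : 21 ≤ Nat.card (ConjClasses Q) := by
  have hfin : Finite Q := Nat.finite_of_card_ne_zero (by rw [Cfsg.Agent.HN.AutBound.card_Q]; norm_num)
  have h3 : Fact (Nat.Prime 3) := ⟨by norm_num⟩
  have h7 : Fact (Nat.Prime 7) := ⟨by norm_num⟩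
  have h1 := sum_le_classes (G := Q) {1, 2, 3, 4, 5, 6, 7, 8, 10, 11, 12, 15, 20}
    (fun n => if n = 4 then 3 else if n = 2 ∨ n = 5 ∨ n = 6 ∨ n = 8 ∨ n = 10 ∨ n = 11 then 2 else 1) (by
    intro n hn
    simp only [Finset.mem_insert, Finset.mem_singleton] at hn
    rcases hn with rfl | rfl | rfl | rfl | rfl | rfl | rfl | rfl | rfl | rfl | rfl | rfl | rfl
    · exact cls1
    · exact cls2
    · exact cls_prime (by norm_num)
    · exact cls4
    · exact cls5
    · exact cls6
    · exact cls_prime (by norm_num)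
    · exact cls8
    · exact cls10
    · exact cls11
    · exact cls_one (L := [tX, tY, tY, tY]) (by simp) (by norm_num) [2, 3] (by decide +kernel) (by decide +kernel)
    · exact cls_one (L := [tX, tY, tY, tY, tY, tW, tY, tW]) (by simp) (by norm_num) [3, 5] (by decide +kernel)
        (by decide +kernel)
    · exact cls_one (L := [tX, tY, tY, tW, tY]) (by simp) (by norm_num) [2, 5] (by decide +kernel) (by decide +kernel))
  refine le_trans (le_of_eq ?_) h1
  decide

theorem many_Q : Many 2 Q 3 := by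
  have h2 : Fact (Nat.Prime 2) := ⟨Nat.prime_two⟩
  have hQ : Nat.card Q = 44352000 := Cfsg.Agent.HN.AutBound.card_Q
  obtain ⟨⟨f⟩, hs⟩ := Cfsg.Agent.HN.AutHS.nonempty_Q
  have hfin : Finite Q := Nat.finite_of_card_ne_zero (by rw [hQ]; norm_num)
  obtain ⟨x, hx⟩ := exists_el in8x
  have hxo : orderOf x = 2 ^ 3 := by
    obtain ⟨b, hb, hb'⟩ := el_of (L := [tX, tY]) (by simp) (m := 8) (by norm_num) [2] (by decide +kernel)
      (by decide +kernel)
    have h1 : x = b := by
      apply Subtype.ext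
      refine Equiv.ext fun i => Fin.ext ?_
      rw [hx, hb']
      revert i
      decide +kernel
    rw [h1, hb]
    norm_num
  have h1 := card_le_16 hx
  have h3 : 2 ^ 3 ∣ Nat.card (centralizer ({x} : Set Q)) := by
    rw [← hxo, ← Nat.card_zpowers]
    exact Subgroup.card_dvd_of_le (zpowers_le.2 (mem_centralizer_singleton_iff.2 rfl))
  have h4 : Nat.card (centralizer ({x} : Set Q)) = 8 ∨ Nat.card (centralizer ({x} : Set Q)) = 16 := by
    have h5 : 0 < Nat.card (centralizer ({x} : Set Q)) := Nat.card_pos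
    omega
  obtain ⟨n, hn, hn'⟩ : ∃ n : ℕ, Nat.card (centralizer ({x} : Set Q)) = 2 ^ n ∧ 2 ^ n ≤ 16 := by
    rcases h4 with h4 | h4
    · exact ⟨3, by rw [h4]; norm_num, by norm_num⟩
    · exact ⟨4, by rw [h4]; norm_num, by norm_num⟩
  have h5 := classes
  refine many_of_classes (p := 2) (x := x) ⟨3, hxo⟩ hn (out_le_two ⟨f⟩ S2072.result (by norm_num)) (by omega)

theorem many_hs {S : Type u} [Group S] (h : Spor.IsoHS S) : Many 2 S 3 := by
  obtain ⟨e⟩ := h
  obtain ⟨⟨f⟩, -⟩ := Cfsg.Agent.HN.AutHS.nonempty_Q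
  exact Many.of_equiv (e.trans f.symm) many_Q

/-- **`HS`** -/
theorem row_hs (T : FactTwo.{u}) (I : H671.H5.FactIM.{u}) : RowF.{u} (fun S => Spor.IsoHS S) := by
  intro S _ _ _ h p hp hd
  have hcard : Nat.card S = 44352000 := NotCT.Orders.hs h
  by_cases hp2 : p = 2
  · subst hp2
    have h2 : Fact (Nat.Prime 2) := ⟨Nat.prime_two⟩
    exact ⟨3, dlLe_three (p := 2) (a := 9) (by norm_num) (by rw [hcard]; norm_num), many_hs h⟩
  refine row_of_arith T I hcard (by norm_num) hp hd fun h6 => ?_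
  have h7 : p ^ 6 ≤ 44352000 := Nat.le_of_dvd (by norm_num) h6
  have h8 : p ≤ 18 := by
    by_contra hcon
    have : 19 ^ 6 ≤ p ^ 6 := Nat.pow_le_pow_left (by omega) 6
    omega
  have h2 := hp.two_le
  interval_cases p <;> first | exact absurd rfl hp2 | (revert h6; norm_num)

end Cfsg.Agent.H70.Dl.HS
end

-- part: H70/Dl/McLTwo
section
/-!
# S4769: `McL`, `p = 2` (helper70)

Degrees 22, 252 and an even degree from Frame's theorem for the rank four action on 2025 points.
-/

set_option autoImplicit false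

open Cfsg

namespace Cfsg.Agent.H70.Dl.McLTwo

open Cfsg.Agent.H246.Dl Cfsg.Agent.H70.Dl
open Cfsg.Agent.Leech.Basic Cfsg.Agent.Leech.Co0Elts
open MulAction Cfsg.Agent.H33 Cfsg.Agent.H593.IMFrame Cfsg.Agent.H713.Spor Cfsg.Agent.SporadicRecognition.HSRank
  Cfsg.Agent.SporadicRecognition.TwoEmb Cfsg.Agent.SporadicRecognition.HSParam
  Cfsg.Agent.SporadicRecognition.McLAssemble Cfsg.Agent.SporadicRecognition.RankThreeOf
open Cfsg.Agent.H852.IMMcL

/-- the product of the subdegrees and of the powers of the degree -/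
def PP : ℕ := 2025 ^ 4 * (330 * 462 * 1232)

/-- `x, y, 2024 - x - y` -/
def test (x y : ℕ) : Bool :=
  (898128000 % y != 0) || (898128000 % (2024 - x - y) != 0) ||
    (x % 2 == 0 && x != 22 && x != 252) || (y % 2 == 0 && y != 22 && y != 252) ||
    ((2024 - x - y) % 2 == 0 && (2024 - x - y) != 22 && (2024 - x - y) != 252) ||
    (PP % (x * y * (2024 - x - y)) != 0) ||
    ((x * y * (2024 - x - y) == 3260950) && (x != y) && (x != 2024 - x - y) && (y != 2024 - x - y) && (x != 1) &&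
      (y != 1) && (2024 - x - y != 1))

/-- the possible degrees -/
private def dvs : List ℕ :=
  (List.range 2024).filter fun x => Nat.beq (898128000 % x) 0 && (Nat.beq (x % 2) 1 || Nat.beq x 22 || Nat.beq x 252)

private theorem mem_dvs {x : ℕ} (h : x < 2024) (hd : x ∣ 898128000) (ex : x % 2 = 0 → x = 22 ∨ x = 252) : x ∈ dvs :=
  List.mem_filter.2 ⟨List.mem_range.2 h, by
    simp only [Bool.and_eq_true, Bool.or_eq_true, Nat.beq_eq]
    exact ⟨Nat.mod_eq_zero_of_dvd hd, by clear h hd; omega⟩⟩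

private noncomputable def _root_.Cfsg.Agent.LsF.ff930d6_0 : {f // @Cfsg.Agent.H70.Dl.McLTwo.dvs = f} := ⟨_, by first | (delta Cfsg.Agent.H70.Dl.McLTwo.dvs; rewrite [Cfsg.Agent.LsF.nmod_pat, Cfsg.Agent.LsF.and_eq, Cfsg.Agent.LsF.or_eq, Cfsg.Agent.LsF.filter_eq, Cfsg.Agent.LsF.range_eq]; exact rfl) | exact rfl⟩
private noncomputable def _root_.Cfsg.Agent.LsF.ff930d6_1 : {f // @Cfsg.Agent.H70.Dl.McLTwo.PP = f} := ⟨_, by first | (delta Cfsg.Agent.H70.Dl.McLTwo.PP; rewrite [Cfsg.Agent.LsF.nmul_pat, Cfsg.Agent.LsF.npow_pat]; exact rfl) | exact rfl⟩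
private noncomputable def _root_.Cfsg.Agent.LsF.ff930d6_2 : {f // @Cfsg.Agent.H70.Dl.McLTwo.test = f} := ⟨_, by first | (delta Cfsg.Agent.H70.Dl.McLTwo.test; rewrite [Cfsg.Agent.LsF.ff930d6_1.2, Cfsg.Agent.LsF.nmul_pat, Cfsg.Agent.LsF.nsub_pat, Cfsg.Agent.LsF.nmod_pat, Cfsg.Agent.LsF.nbeq_pat, Cfsg.Agent.LsF.nbne_pat, Cfsg.Agent.LsF.and_eq, Cfsg.Agent.LsF.or_eq]; exact rfl) | exact rfl⟩
private theorem dvs_all : (dvs.all fun x => dvs.all fun y => test x y) = true := by ((try (rewrite [Cfsg.Agent.LsF.ff930d6_0.2, Cfsg.Agent.LsF.ff930d6_2.2, Cfsg.Agent.LsF.all_eq])); decide +kernel)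

theorem search {x y z : ℕ} (hs : x + y + z = 2024) (hx : x ∣ 898128000) (hy : y ∣ 898128000) (hz : z ∣ 898128000)
    (hp : x * y * z ∣ PP) (ex : x % 2 = 0 → x = 22 ∨ x = 252) (ey : y % 2 = 0 → y = 22 ∨ y = 252)
    (ez : z % 2 = 0 → z = 22 ∨ z = 252) :
    x * y * z = 3260950 ∧ x ≠ y ∧ x ≠ z ∧ y ≠ z ∧ x ≠ 1 ∧ y ≠ 1 ∧ z ≠ 1 := by
  have hx0 : x ≠ 0 := by rintro rfl; norm_num at hx
  have hy0 : y ≠ 0 := by rintro rfl; norm_num at hy
  have hz0 : z ≠ 0 := by rintro rfl; norm_num at hz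
  have hz' : z = 2024 - x - y := by omega
  have h2 := List.all_eq_true.1 (List.all_eq_true.1 dvs_all x (mem_dvs (by omega) hx ex)) y (mem_dvs (by omega) hy ey)
  rw [test, ← hz'] at h2
  simp only [Bool.or_eq_true, Bool.and_eq_true, bne_iff_ne, beq_iff_eq, ne_eq] at h2
  rcases h2 with (((((h2 | h2) | h2) | h2) | h2) | h2) | h2
  · exact absurd (Nat.dvd_iff_mod_eq_zero.1 hy) h2
  · exact absurd (Nat.dvd_iff_mod_eq_zero.1 hz) h2
  · rcases ex h2.1.1 with h3 | h3
    · exact absurd h3 h2.1.2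
    · exact absurd h3 h2.2
  · rcases ey h2.1.1 with h3 | h3
    · exact absurd h3 h2.1.2
    · exact absurd h3 h2.2
  · rcases ez h2.1.1 with h3 | h3
    · exact absurd h3 h2.1.2
    · exact absurd h3 h2.2
  · exact absurd (Nat.dvd_iff_mod_eq_zero.1 hp) h2
  · obtain ⟨⟨⟨⟨⟨⟨c1, c2⟩, c3⟩, c4⟩, c5⟩, c6⟩, c7⟩ := h2
    exact ⟨c1, c2, c3, c4, c5, c6, c7⟩

theorem not_square {D : ℕ} (h : 3260950 * D = PP) : ¬ IsSquare D := by
  rintro ⟨c, rfl⟩
  have h1 : c * c = 968551222500000 := by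
    have h2 : 3260950 * (c * c) = 3260950 * 968551222500000 := h.trans (by unfold PP; norm_num)
    exact Nat.eq_of_mul_eq_mul_left (by norm_num) h2
  rcases Nat.lt_or_ge c 31121556 with h2 | h2
  · have : c * c ≤ 31121555 * 31121555 := Nat.mul_le_mul (by omega) (by omega)
    omega
  · have : 31121556 * 31121556 ≤ c * c := Nat.mul_le_mul h2 h2
    omega

theorem exists_four : ∀ i0 : Fin 4, ∃ i j l, i0 ≠ i ∧ i0 ≠ j ∧ i0 ≠ l ∧ i ≠ j ∧ i ≠ l ∧ j ≠ l := by decide

/-- An even degree different from 22 and 252. -/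
theorem exists_even {f : Fin 4 → ℕ} (h1 : ∀ i, f i ∣ 898128000) {i0 : Fin 4} (h0 : f i0 = 1)
    (hs : ∑ i, f i = 2025) {D : ℕ} (hp : (∏ i, f i) * D = PP) (hD : Function.Injective f → IsSquare D) :
    ∃ i, f i % 2 = 0 ∧ f i ≠ 22 ∧ f i ≠ 252 := by
  by_contra hcon
  push Not at hcon
  have hev : ∀ i, f i % 2 = 0 → f i = 22 ∨ f i = 252 := by
    intro i hi
    by_cases h22 : f i = 22
    · exact Or.inl h22
    · exact Or.inr (hcon i hi h22)
  obtain ⟨i, j, l, a1, a2, a3, a4, a5, a6⟩ := exists_four i0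
  have hu := univ_four i0 i j l a1 a2 a3 a4 a5 a6
  have hsum : f i0 + (f i + (f j + f l)) = 2025 := by
    rw [← hs, hu, Finset.sum_insert (by simp [a1, a2, a3]), Finset.sum_insert (by simp [a4, a5]), Finset.sum_pair a6]
  have hprod : ∏ i, f i = f i * f j * f l := by
    rw [hu, Finset.prod_insert (by simp [a1, a2, a3]), Finset.prod_insert (by simp [a4, a5]), Finset.prod_pair a6, h0]
    ring
  rw [hprod] at hp
  obtain ⟨b0, b1, b2, b3, b4, b5, b6⟩ := search (by omega) (h1 i) (h1 j) (h1 l) (Dvd.intro _ hp) (hev i) (hev j) (hev l)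
  rw [b0] at hp
  refine not_square hp (hD ?_)
  have hmem : ∀ m : Fin 4, m = i0 ∨ m = i ∨ m = j ∨ m = l := by
    intro m
    have := Finset.mem_univ m
    rw [hu] at this
    simpa using this
  intro m n hmn
  rcases hmem m with rfl | rfl | rfl | rfl <;> rcases hmem n with rfl | rfl | rfl | rfl <;>
    first | rfl | (exfalso; omega)

theorem exists_deg_of_eq {A B : Subgroup ↥Co0} (h : A = B) {d : ℕ}
    (hA : ∃ χ : IrrCharacter A, charDegree (χ : A → ℂ) = d) : ∃ χ : IrrCharacter B, charDegree (χ : B → ℂ) = d := by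
  subst h
  exact hA

theorem hK : K (-Spor.leechV) Spor.leechU = K Spor.leechU (-(Spor.leechV + Spor.leechU)) := by
  rw [← k_neg, k_eq']

theorem even_model : ∃ χ : IrrCharacter ↥(K Spor.leechU (-(Spor.leechV + Spor.leechU))),
    charDegree (χ : ↥(K Spor.leechU (-(Spor.leechV + Spor.leechU))) → ℂ) % 2 = 0 ∧
    charDegree (χ : ↥(K Spor.leechU (-(Spor.leechV + Spor.leechU))) → ℂ) ≠ 22 ∧
    charDegree (χ : ↥(K Spor.leechU (-(Spor.leechV + Spor.leechU))) → ℂ) ≠ 252 := by
  classical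
  obtain ⟨hs, hG⟩ := facts'
  set v := Spor.leechU with hv
  set w := -(Spor.leechV + Spor.leechU) with hw
  let _ := act (K v w) (Pts v w) (pts_inv v w)
  have hfin : Finite ↥(K v w) := Nat.finite_of_card_ne_zero (by rw [hG]; norm_num)
  obtain ⟨hX, a, b, hsub⟩ := sub_four norm_U norm_W dot_UW
  have hfX : Finite ↥(Pts v w) := Nat.finite_of_card_ne_zero (by rw [hX]; norm_num)
  obtain ⟨χ, f, D, h1, h2, h3, ⟨i0, h4, h4'⟩, h5, h6, h7⟩ := exists_degrees hsub
  have hN : ∏ i, (Nat.card ↥(Pts v w) * ![1, 330, 462, 1232] i) = PP := by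
    rw [hX, Fin.prod_univ_four]
    rfl
  rw [hN] at h6
  rw [hX] at h5
  rw [hG] at h3
  obtain ⟨i, hi, hi1, hi2⟩ := exists_even h3 h4' h5 h6 h7
  have hdeg : charDegree (χ i : ↥(K v w) → ℂ) = f i := H670.PSing.charDegree_eq_of (h2 i)
  exact ⟨χ i, by rw [hdeg]; exact hi, by rw [hdeg]; exact hi1, by rw [hdeg]; exact hi2⟩

/-- **The model.** -/
theorem many_model : Many 2 ↥(K Spor.leechU (-(Spor.leechV + Spor.leechU))) 3 := by
  obtain ⟨μ, hμ⟩ := exists_deg_of_eq hK (d := 22) (by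
    obtain ⟨μ, -, hμ⟩ := McL.exists_22
    have hfin : Finite ↥(K (-Spor.leechV) Spor.leechU) := Nat.finite_of_card_ne_zero (by rw [McL.facts.2]; norm_num)
    refine ⟨μ, ?_⟩
    have := HS.degree_of_lchi hμ
    omega)
  obtain ⟨ν, hν⟩ := exists_deg_of_eq hK McL.exists_252
  obtain ⟨χ, hi, hi1, hi2⟩ := even_model
  refine many_three (α := μ) (β := ν) (γ := χ) (by rw [hμ]; norm_num) (by rw [hν]; norm_num)
    (Nat.dvd_of_mod_eq_zero hi) ?_ ?_ ?_
  · rw [hμ, hν]; norm_num
  · rw [hμ]; exact Ne.symm hi1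
  · rw [hν]; exact Ne.symm hi2

theorem many_mcl {S : Type*} [Group S] (h : Spor.IsoMcL S) : Many 2 S 3 := by
  obtain ⟨e⟩ := h
  exact Many.of_equiv ((e.trans McL.mclEquiv).trans (MulEquiv.subgroupCongr hK)) many_model

end Cfsg.Agent.H70.Dl.McLTwo
end

-- part: H70/Dl/McL
section
/-!
# S4769: the row of `McL` (helper70)

`p = 3`: `PSU₄(3)` has index 275, and a Sylow 3-subgroup of `SL₄(9)` has derived length at most 2.
-/

set_option autoImplicit false

open Cfsg

namespace Cfsg.Agent.H70.Dl.McL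

open Cfsg.Agent.H246.Dl Cfsg.Agent.H596.OneFacts Cfsg.Agent.H651.Two Cfsg.Agent.H759.Dl Cfsg.Agent.H680.Dl
open Cfsg.Agent.H70.Dl Subgroup
open Cfsg.Agent.H990.CCHS (pair hV exists_field9 card_psu9)
open Cfsg.Agent.H792.SpU35 (card_McL)

universe u

theorem dlLe_psu {F : Type} [Field F] [Fintype F] (hF : Fintype.card F = 9) : DlLe 3 2 (PSU 4 F 3) := by
  have h3 : Fact (Nat.Prime 3) := ⟨Nat.prime_three⟩
  have : CharP F 3 := by
    obtain ⟨q, hq⟩ := CharP.exists F
    have hpf : Fact q.Prime := ⟨CharP.char_is_prime F q⟩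
    obtain ⟨n, hn, hc⟩ := FiniteField.card F q
    rw [hF] at hc
    have h1 : q ∣ 3 ^ 2 := by
      rw [show (3 : ℕ) ^ 2 = q ^ (n : ℕ) from hc]
      exact dvd_pow_self q n.pos.ne'
    have h2 := (Nat.prime_dvd_prime_iff_eq hn Nat.prime_three).1 (hn.dvd_of_dvd_pow h1)
    rwa [h2] at hq
  have h1 := Cfsg.Agent.H755.Dl.DlLe_charp (p := 3) (F := F) (n := 4) (G := SU 4 F 3) (S := PSU 4 F 3)
    (f := QuotientGroup.mk' _) (ρ := Matrix.SpecialLinearGroup.toGL.comp (SU 4 F 3).subtype)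
    (QuotientGroup.mk'_surjective _) (by
      rw [MonoidHom.coe_comp]
      refine Function.Injective.comp ?_ (SU 4 F 3).subtype_injective
      intro a b hab
      exact Subtype.ext (congrArg (fun x : GL (Fin 4) F => (x : Matrix (Fin 4) (Fin 4) F)) hab))
  exact h1

theorem dlLe_three_mcl {K : Type u} [Group K] [Finite K] (h : Spor.IsoMcL K) : DlLe 3 2 K := by
  have h3 : Fact (Nat.Prime 3) := ⟨Nat.prime_three⟩
  obtain ⟨F, _, _, hF⟩ := exists_field9
  have hn := (Cfsg.Agent.S1580.result Spor.leechV (-Spor.leechU) hV pair).1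
  obtain ⟨x, hx⟩ := Set.nonempty_of_ncard_ne_zero (by rw [hn]; norm_num)
  obtain ⟨e⟩ := Cfsg.Agent.S1582.result Spor.leechV (-Spor.leechU) x hV pair hx F hF
  obtain ⟨e2⟩ := h
  set W := MulAction.stabilizer Co0 Spor.leechV ⊓ MulAction.stabilizer Co0 (-Spor.leechU) ⊓ MulAction.stabilizer Co0 x with hW
  have hmem : ∀ g : W, ((g : Co0) : Equiv.Perm leechLattice) ∈ Spor.McL := by
    intro g
    have h1 : (g : Co0) • Spor.leechV = Spor.leechV := g.2.1.1
    have h2 : (g : Co0) • (-Spor.leechU) = -Spor.leechU := g.2.1.2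
    rw [Cfsg.Agent.SporadicStructure.Co0Base.co0_smul_neg, neg_inj] at h2
    exact ⟨⟨(g : Co0).2, h1⟩, h2⟩
  let f : W →* Spor.McL := (Co0.subtype.comp W.subtype).codRestrict Spor.McL hmem
  have hf : Function.Injective f := by
    intro a b h
    have h1 := congrArg Subtype.val h
    exact Subtype.ext (Subtype.ext h1)
  let g : PSU 4 F 3 →* K := (e2.symm.toMonoidHom.comp f).comp e.symm.toMonoidHom
  have hg : Function.Injective g := by
    rw [MonoidHom.coe_comp, MonoidHom.coe_comp]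
    exact (e2.symm.injective.comp hf).comp e.symm.injective
  have hcard := card_psu9 hF
  have hcr : Nat.card g.range = 3265920 := by
    rw [← hcard]
    exact (Nat.card_congr (MonoidHom.ofInjective hg).toEquiv).symm
  have hcK : Nat.card K = 898128000 := by rw [Nat.card_congr e2.toEquiv, card_McL]
  have hidx : g.range.index = 275 := by
    have h1 := g.range.card_mul_index
    rw [hcr, hcK] at h1
    omega
  refine DlLe.of_index (p := 3) (H := g.range) (by rw [hidx]; norm_num) ?_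
  exact DlLe.of_equiv (MonoidHom.ofInjective hg).symm (dlLe_psu hF)

/-- **`McL`** -/
theorem row_mcl (T : FactTwo.{u}) (I : H671.H5.FactIM.{u}) : RowF.{u} (fun S => Spor.IsoMcL S) := by
  intro S _ _ _ h p hp hd
  have hcard : Nat.card S = 898128000 := by
    obtain ⟨e⟩ := h
    rw [Nat.card_congr e.toEquiv, card_McL]
  by_cases hp2 : p = 2
  · subst hp2
    have h2 : Fact (Nat.Prime 2) := ⟨Nat.prime_two⟩
    exact ⟨3, dlLe_three (p := 2) (a := 7) (by norm_num) (by rw [hcard]; norm_num), McLTwo.many_mcl h⟩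
  by_cases hp3 : p = 3
  · subst hp3
    exact row_of_dl_two T I (not_comm (by rw [hcard]; norm_num)) hp hd (dlLe_three_mcl h)
  refine row_of_arith T I hcard (by norm_num) hp hd fun h6 => ?_
  have h7 : p ^ 6 ≤ 898128000 := Nat.le_of_dvd (by norm_num) h6
  have h8 : p ≤ 32 := by
    by_contra hcon
    have : 33 ^ 6 ≤ p ^ 6 := Nat.pow_le_pow_left (by omega) 6
    omega
  have h2 := hp.two_le
  interval_cases p <;> first | exact absurd rfl hp2 | exact absurd rfl hp3 | (revert h6; norm_num; done) | (revert hp; norm_num)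

end Cfsg.Agent.H70.Dl.McL
end

-- part: H868/Dl/ONCls
section
/-!
# The O'Nan group: the centralizer of an element of order 16 (S4769, helper868)

`card16` : `|C(x)| ≤ 16` for `x = E 384` of order 16: no element of order 3, 5, 7 commutes with `x`, and the
centralizers of the elements of order 16 in the Sylow 2-subgroup `T` have order 16.
-/

set_option autoImplicit false
set_option maxRecDepth 100000

namespace Cfsg.Agent.H868.Dl.ONCls

open Cfsg Subgroup
open Cfsg.Spor (ON)
open Cfsg.Agent.SporadicB.ON45Word (on)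
open Cfsg.Agent.KFacts.ON.Words (hs vv v)
open Cfsg.Agent.KFacts.ON.Struct
open Cfsg.Agent.UGT.C.BalONTab Cfsg.Agent.UGT.C.BalONInv
open Cfsg.Agent.ONType.TupK (K0)
open Cfsg.Agent.H620.ONStruct Cfsg.Agent.H620.ONSixteen

private noncomputable def _root_.Cfsg.Agent.LsF.ff930d6_3 : {f // @Cfsg.Agent.UGT.C.PcTab.mulk = f} := ⟨_, by first | (delta Cfsg.Agent.UGT.C.PcTab.mulk Cfsg.Agent.UGT.C.PcTab.mulk._f Nat.brecOn.go Nat.brecOn; rewrite [Cfsg.Agent.LsF.cond_eq, Cfsg.Agent.LsF.testBit_eq]; (try delta Cfsg.Agent.UGT.C.PcTab.ev.match_1); (try delta Nat.casesOn); first | dsimp -zeta only | exact rfl) | exact rfl⟩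
private noncomputable def _root_.Cfsg.Agent.LsF.ff930d6_4 : {f // @Cfsg.Agent.UGT.C.BalONTab.mu = f} := ⟨_, by first | (delta Cfsg.Agent.UGT.C.BalONTab.mu; rewrite [Cfsg.Agent.LsF.ff930d6_3.2]; exact rfl) | exact rfl⟩
/-- the codes commuting with the representatives -/
theorem cent_cnt : ∀ r ∈ reps16, ((Finset.range 512).filter fun c => mu c r = mu r c).card ≤ 16 := by
  (refine of_decide_eq_true ?_; (try (rewrite [Cfsg.Agent.LsF.ff930d6_4.2, Cfsg.Agent.LsF.fcard_eq, Cfsg.Agent.LsF.ffilter_eq, Cfsg.Agent.LsF.frange_eq, Cfsg.Agent.LsF.instDecEq_eq, Cfsg.Agent.LsF.decLe_eq, Cfsg.Agent.LsF.dBAll_eq, Cfsg.Agent.LsF.decide_eq])); decide +kernel)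

/-- subgroups of `T` commuting with a representative -/
theorem card_rep {r : ℕ} (hr : r ∈ reps16) {Q : Subgroup ON} (hQ : Q ≤ T) (hc : ∀ q ∈ Q, q * E r = E r * q) :
    Nat.card Q ≤ 16 := by
  refine le_trans ?_ (cent_cnt r hr)
  have h1 : ∀ q : Q, ∃ c < 512, (q : ON) = E c := fun q => exists_E hs (hQ q.2)
  choose f hf hf' using h1
  have hmem : ∀ q : Q, f q ∈ (Finset.range 512).filter fun c => mu c r = mu r c := by
    intro q
    rw [Finset.mem_filter, Finset.mem_range]
    refine ⟨hf q, ?_⟩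
    have h2 := hc q q.2
    rw [hf' q, E_mul hs (hf q), E_mul hs (reps16_lt r hr)] at h2
    exact E_inj hs (mu_lt hs (hf q) r) (mu_lt hs (reps16_lt r hr) _) h2
  have h3 : Nat.card {i // i ∈ (Finset.range 512).filter fun c => mu c r = mu r c} =
      ((Finset.range 512).filter fun c => mu c r = mu r c).card := by
    rw [Nat.card_eq_fintype_card, Fintype.card_coe]
  rw [← h3]
  refine Nat.card_le_card_of_injective
    (fun q : Q => (⟨f q, hmem q⟩ : {i // i ∈ (Finset.range 512).filter fun c => mu c r = mu r c})) ?_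
  intro q q' h
  have h4 : f q = f q' := congrArg Subtype.val h
  apply Subtype.ext
  rw [hf' q, hf' q', h4]

/-- the elements of order 16 of `T` -/
theorem exists_rep {x : ON} (hx : x ∈ T) (h8 : x ^ 8 ≠ 1) : ∃ u ∈ T, ∃ r ∈ reps16, u * x * u⁻¹ = E r := by
  obtain ⟨c, hc, rfl⟩ := exists_E hs hx
  have h1 : mu (mu (mu c c) (mu c c)) (mu (mu c c) (mu c c)) ≠ 0 := by
    intro h2
    apply h8
    rw [E_eight hc, h2, E_zero]
  obtain ⟨e, he, hec⟩ := List.any_eq_true.1 ((tl_all c hc).resolve_left h1)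
  have hec : e.1 = c := Nat.eq_of_beq_eq_true hec
  have hok := List.all_eq_true.1 tl_ok e he
  rw [Bool.and_eq_true, Bool.and_eq_true] at hok
  obtain ⟨c1, c2, c3⟩ := hok
  have c1 := Nat.eq_of_beq_eq_true c1
  have c2 : e.2.1 < 512 := Nat.blt_eq.mp c2
  obtain ⟨r, hr, hre⟩ := List.any_eq_true.1 c3
  have hre : r = e.2.2 := Nat.eq_of_beq_eq_true hre
  rw [hec, ← hre] at c1
  refine ⟨E e.2.1, E_mem _, r, hr, ?_⟩
  rw [mul_inv_eq_iff_eq_mul, E_mul hs c2, E_mul hs (reps16_lt r hr), c1]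

/-- 2-subgroups commuting with an element of order 16 -/
theorem card_two {x : ON} (hx : orderOf x = 16) {Q : Subgroup ON} (hQ : IsPGroup 2 Q) (hxQ : x ∈ Q)
    (hc : ∀ q ∈ Q, q * x = x * q) : Nat.card Q ≤ 16 := by
  obtain ⟨h, hh⟩ := exists_conj_T hQ
  have h8 : (h * x * h⁻¹) ^ 8 ≠ 1 := by
    rw [conj_pow]
    intro h1
    have h2 : x ^ 8 = 1 := by
      calc x ^ 8 = h⁻¹ * (h * x ^ 8 * h⁻¹) * h := by group
        _ = 1 := by rw [h1]; group
    have h3 := orderOf_dvd_of_pow_eq_one h2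
    rw [hx] at h3
    norm_num at h3
  obtain ⟨u, hu, r, hr, hur⟩ := exists_rep (hh x hxQ) h8
  have h4 := card_rep hr (Q := Q.map (MulAut.conj (u * h)).toMonoidHom) (by
    rintro _ ⟨q, hq, rfl⟩
    have h5 : (MulAut.conj (u * h)).toMonoidHom q = u * (h * q * h⁻¹) * u⁻¹ := by
      show u * h * q * (u * h)⁻¹ = _
      group
    rw [h5]
    exact T.mul_mem (T.mul_mem hu (hh q hq)) (T.inv_mem hu)) (by
    rintro _ ⟨q, hq, rfl⟩
    rw [← hur]
    show u * h * q * (u * h)⁻¹ * (u * (h * x * h⁻¹) * u⁻¹) = u * (h * x * h⁻¹) * u⁻¹ * (u * h * q * (u * h)⁻¹)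
    calc u * h * q * (u * h)⁻¹ * (u * (h * x * h⁻¹) * u⁻¹) = u * h * (q * x) * h⁻¹ * u⁻¹ := by group
      _ = u * h * (x * q) * h⁻¹ * u⁻¹ := by rw [hc q hq]
      _ = u * (h * x * h⁻¹) * u⁻¹ * (u * h * q * (u * h)⁻¹) := by group)
  rwa [card_map_of_injective (MulAut.conj (u * h)).injective] at h4

theorem x8 : E 384 ^ 8 = on .f := by rw [E_eight (by norm_num), m16, E_one]

/-- no element of odd prime order commutes with `x` -/
theorem no_odd {y : ON} {q : ℕ} (hq : q.Prime) (hq2 : q ≠ 2) (hy : orderOf y = q) (hc : y * E 384 = E 384 * y) :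
    False := by
  have hfin := finite_ON
  have hyf : y * on .f = on .f * y := by
    rw [← x8]
    exact ((show Commute y (E 384) from hc).pow_right 8).eq
  have hyK : y ∈ K0 := mem_K0.2 hyf
  have hy1 : y ^ q = 1 := by rw [← hy, pow_orderOf_eq_one]
  have hyJ : y ∈ J := Cfsg.Agent.H474.ONC.mem_J_of_odd hyK (hq.odd_of_ne_two hq2) hy1
  have hyne : y ≠ 1 := by
    intro h
    rw [h, orderOf_one] at hy
    exact hq.one_lt.ne hy
  have hxf : E 384 ∈ K0 := mem_K0.2 (by
    rw [← x8]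
    exact ((Commute.refl (E 384)).pow_right 8).eq)
  have hx2 : E 384 * E 384 ∈ J := @Subgroup.mul_self_mem_of_index_two _ _ _ index_J ⟨E 384, hxf⟩
  have hd : q ∣ 161280 := by
    rw [← Cfsg.Agent.KFacts.ON.Cent.card_K0, ← hy]
    have h1 := orderOf_dvd_natCard (⟨y, hyK⟩ : K0)
    rwa [Subgroup.orderOf_mk] at h1
  have hq' : q = 3 ∨ q = 5 ∨ q = 7 := by
    have h2 : q ∣ 2 ^ 9 * (3 ^ 2 * (5 * 7)) := by
      norm_num
      exact hd
    rcases hq.dvd_mul.1 h2 with h2 | h2
    · exact absurd ((Nat.prime_dvd_prime_iff_eq hq Nat.prime_two).1 (hq.dvd_of_dvd_pow h2)) hq2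
    rcases hq.dvd_mul.1 h2 with h2 | h2
    · exact Or.inl ((Nat.prime_dvd_prime_iff_eq hq Nat.prime_three).1 (hq.dvd_of_dvd_pow h2))
    rcases hq.dvd_mul.1 h2 with h2 | h2
    · exact Or.inr (Or.inl ((Nat.prime_dvd_prime_iff_eq hq (by norm_num)).1 h2))
    · exact Or.inr (Or.inr ((Nat.prime_dvd_prime_iff_eq hq (by norm_num)).1 h2))
  have hloc : ∀ {p : ℕ}, Cfsg.Agent.H474.ONC.Loc p y v → (4 * p) % 16 ≠ 0 → False := by
    intro p L hp
    obtain ⟨i, j, hij⟩ := L.cent (E 384) hc.symm (by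
      rw [pow_two, vv]
      exact mem_K0.1 hxf)
    have hcom : Commute (y ^ i) (v ^ j) := (show Commute y v from L.comm.symm).pow_pow i j
    have h1 : E 384 ^ (4 * p) = 1 := by
      rw [hij, hcom.mul_pow, ← pow_mul, ← pow_mul]
      have e1 : y ^ (i * (4 * p)) = 1 := by
        rw [show i * (4 * p) = p * (4 * i) by ring, pow_mul, ← L.ox, pow_orderOf_eq_one, one_pow]
      have e2 : v ^ (j * (4 * p)) = 1 := by
        rw [show j * (4 * p) = 4 * (j * p) by ring, pow_mul, ← L.ov, pow_orderOf_eq_one, one_pow]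
      rw [e1, e2, one_mul]
    have h2 := orderOf_dvd_of_pow_eq_one h1
    rw [orderOf_x16] at h2
    exact hp (Nat.mod_eq_zero_of_dvd h2)
  rcases hq' with rfl | rfl | rfl
  · -- order 3
    have ov : orderOf v = 4 := Cfsg.Agent.H474.ONC.order_v
    have hcx : ∀ k : ℕ, y * E 384 ^ k = E 384 ^ k * y := fun k => ((show Commute y (E 384) from hc).pow_right k).eq
    have o4 : orderOf (E 384 ^ 4) = 4 := by
      rw [orderOf_pow_of_dvd (by norm_num) (by rw [orderOf_x16]; norm_num), orderOf_x16]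
    have o2 : orderOf (E 384 ^ 2) = 8 := by
      rw [orderOf_pow_of_dvd (by norm_num) (by rw [orderOf_x16]; norm_num), orderOf_x16]
    have j2 : E 384 ^ 2 ∈ J := by rw [pow_two]; exact hx2
    have j4 : E 384 ^ 4 ∈ J := by
      rw [show (4 : ℕ) = 2 * 2 by norm_num, pow_mul]
      exact J.pow_mem j2 2
    by_cases hv : E 384 ^ 4 ∈ zpowers v
    · refine hyne (Cfsg.Agent.CpAut.SporThree.ONInv.no_three hyJ hy1 j2 (fun h => ?_) ?_ (hcx 2))
      · have h1 := orderOf_dvd_natCard (⟨E 384 ^ 2, h⟩ : zpowers v)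
        rw [Subgroup.orderOf_mk, o2, Nat.card_zpowers, ov] at h1
        norm_num at h1
      · rw [← pow_two, ← pow_mul]
        exact hv
    · refine hyne (Cfsg.Agent.CpAut.SporThree.ONInv.no_three hyJ hy1 j4 hv ?_ (hcx 4))
      rw [← pow_two, ← pow_mul, show 4 * 2 = 8 by norm_num, x8, ← vv]
      exact (zpowers v).mul_mem (mem_zpowers v) (mem_zpowers v)
  · exact hloc (Cfsg.Agent.H474.ONC.loc_five hy hyJ) (by norm_num)
  · exact hloc (Cfsg.Agent.H474.ONC.loc_seven hy hyJ) (by norm_num)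

/-- **`|C(x)| ≤ 16`** -/
theorem card16 : Nat.card ↥(centralizer ({E 384} : Set ON)) ≤ 16 := by
  have hfin := finite_ON
  have h2 : Fact (Nat.Prime 2) := ⟨Nat.prime_two⟩
  refine card_two orderOf_x16 ?_ (mem_centralizer_singleton_iff.2 rfl) (fun q hq => mem_centralizer_singleton_iff.1 hq)
  rw [IsPGroup.iff_card]
  have h0 : Nat.card ↥(centralizer ({E 384} : Set ON)) ≠ 0 := Nat.card_pos.ne'
  refine ⟨_, Nat.eq_prime_pow_of_unique_prime_dvd h0 fun {q} hq hd => ?_⟩
  by_contra hne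
  have : Fact q.Prime := ⟨hq⟩
  obtain ⟨y, hy⟩ := exists_prime_orderOf_dvd_card' q hd
  exact no_odd hq hne (y := y) (by rw [← hy, Subgroup.orderOf_coe]) (mem_centralizer_singleton_iff.1 y.2)

end Cfsg.Agent.H868.Dl.ONCls
end

-- part: H868/Dl/ON
section
/-!
# S4769, S4767: the row of the O'Nan group (helper868, task DL-SPOR-3)

`p = 2` : 21 classes, an element of order 16 with centralizer of order at most 16, `|Out| ≤ 2`, so three characters of
even degree; `|S|₂ = 2 ^ 9`, so the derived length is at most 3.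
-/

set_option autoImplicit false

open Cfsg

namespace Cfsg.Agent.H868.Dl

open Cfsg.Agent.H246.Dl Cfsg.Agent.H680.Dl Cfsg.Agent.H759.Dl

universe u

theorem on_spor {S : Type u} [Group S] (h : Spor.IsoON S) : IsSporadicGroup S := by
  unfold IsSporadicGroup
  simp only [h, true_or, or_true]

/-- three characters of even degree -/
theorem many_on : Many 2 Spor.ON 3 := by
  have hfin := H620.ONStruct.finite_ON
  have : Fact (Nat.Prime 2) := ⟨Nat.prime_two⟩
  refine H454.DlCrit.Many.of_count_le (o := 2) (c := 21) (x := UGT.C.BalONInv.E 384)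
    ⟨4, ?_⟩ (out_le_two (on_spor ⟨MulEquiv.refl _⟩)) H620.ONVan.card_classes ?_
  · rw [H620.ONSixteen.orderOf_x16]
    norm_num
  · have h1 := ONCls.card16
    omega

/-- **The row of the O'Nan group.** -/
theorem row_on (T : H596.OneFacts.FactTwo.{u}) (I : H671.H5.FactIM.{u}) : RowF.{u} (fun S => Spor.IsoON S) := by
  intro S _ _ _ h p hp hd
  have hF : Fact p.Prime := ⟨hp⟩
  obtain ⟨e⟩ := h
  have hcard : Nat.card S = 460815505920 := by
    rw [Nat.card_congr e.toEquiv, H620.ONStruct.card_ON]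
  have hc : ¬ IsMulCommutative S := not_comm_of_card (by rw [hcard]; norm_num)
  by_cases h2 : p = 2
  · subst h2
    exact Row.of_le (dlLe_three (a := 9) (by norm_num) (by rw [hcard]; norm_num)) (many_on.of_equiv e) le_rfl
  · refine row_of_dl_two T I hc hp hd (dlLe_two (a := 4) (by norm_num) ?_)
    rw [hcard] at hd ⊢
    have h1 : (460815505920 : ℕ) = 2 ^ 9 * (3 ^ 4 * (5 ^ 1 * (7 ^ 3 * (11 ^ 1 * (19 ^ 1 * (31 ^ 1 * 1)))))) := by
      norm_num
    rw [h1] at hd
    rcases eq_or_dvd hp Nat.prime_two hd with rfl | hd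
    · exact absurd rfl h2
    rcases eq_or_dvd hp Nat.prime_three hd with rfl | hd
    · norm_num
    rcases eq_or_dvd hp (by norm_num) hd with rfl | hd
    · norm_num
    rcases eq_or_dvd hp (by norm_num) hd with rfl | hd
    · norm_num
    rcases eq_or_dvd hp (by norm_num) hd with rfl | hd
    · norm_num
    rcases eq_or_dvd hp (by norm_num) hd with rfl | hd
    · norm_num
    rcases eq_or_dvd hp (by norm_num) hd with rfl | hd
    · norm_num
    · exact absurd (Nat.dvd_one.1 hd) hp.one_lt.ne'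

end Cfsg.Agent.H868.Dl
end

-- part: H868/Dl/Ru
section
/-!
# S4769, S4767: the row of the Rudvalis group (helper868, task DL-SPOR-3)

`p = 2` : 26 classes, an element of order 16 with centralizer of order at most 16, `|Out| ≤ 2`, so four characters of
even degree; `|S|₂ = 2 ^ 14`, so the derived length is at most 4.
-/

set_option autoImplicit false

open Cfsg

namespace Cfsg.Agent.H868.Dl

open Cfsg.Agent.H246.Dl Cfsg.Agent.H680.Dl Cfsg.Agent.H759.Dl

universe u

theorem ru_spor {S : Type u} [Group S] (h : Spor.IsoRu S) : IsSporadicGroup S := by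
  unfold IsSporadicGroup
  simp only [h, true_or, or_true]

/-- four characters of even degree -/
theorem many_ru : Many 2 SporadicB.RuOrder.H 4 := by
  have hcard : Nat.card SporadicB.RuOrder.H = 145926144000 := SporadicB.RuOrder.card_H
  have hfin : Finite SporadicB.RuOrder.H := Nat.finite_of_card_ne_zero (by rw [hcard]; norm_num)
  have hiso : Spor.IsoRu SporadicB.RuOrder.H := ⟨RuLat.Main.equiv.symm⟩
  have : Fact (Nat.Prime 2) := ⟨Nat.prime_two⟩
  refine H454.DlCrit.Many.of_count_le (o := 2) (c := 26) (x := SporRec.TCUpperCert.wprod RuD.Letters.ml RuCls.w16)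
    ⟨4, ?_⟩ (out_le_two (ru_spor hiso)) H153.Zeros.RuCls.classes ?_
  · rw [RuCls.order16]
    norm_num
  · have h1 := RuCls.card16
    omega

/-- **The row of the Rudvalis group.** -/
theorem row_ru (T : H596.OneFacts.FactTwo.{u}) (I : H671.H5.FactIM.{u}) : RowF.{u} (fun S => Spor.IsoRu S) := by
  intro S _ _ _ h p hp hd
  have hF : Fact p.Prime := ⟨hp⟩
  obtain ⟨e⟩ := h
  have e' := e.trans RuLat.Main.equiv
  have hcard : Nat.card S = 145926144000 := by
    rw [Nat.card_congr e'.toEquiv, SporadicB.RuOrder.card_H]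
  have hc : ¬ IsMulCommutative S := not_comm_of_card (by rw [hcard]; norm_num)
  by_cases h2 : p = 2
  · subst h2
    exact Row.of_le (dlLe_four (a := 14) (by norm_num) (by rw [hcard]; norm_num)) (many_ru.of_equiv e') le_rfl
  · refine row_of_dl_two T I hc hp hd (dlLe_two (a := 3) (by norm_num) ?_)
    rw [hcard] at hd ⊢
    have h1 : (145926144000 : ℕ) = 2 ^ 14 * (3 ^ 3 * (5 ^ 3 * (7 ^ 1 * (13 ^ 1 * (29 ^ 1 * 1))))) := by norm_num
    rw [h1] at hd
    rcases eq_or_dvd hp Nat.prime_two hd with rfl | hd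
    · exact absurd rfl h2
    rcases eq_or_dvd hp Nat.prime_three hd with rfl | hd
    · norm_num
    rcases eq_or_dvd hp (by norm_num) hd with rfl | hd
    · norm_num
    rcases eq_or_dvd hp (by norm_num) hd with rfl | hd
    · norm_num
    rcases eq_or_dvd hp (by norm_num) hd with rfl | hd
    · norm_num
    rcases eq_or_dvd hp (by norm_num) hd with rfl | hd
    · norm_num
    · exact absurd (Nat.dvd_one.1 hd) hp.one_lt.ne'

end Cfsg.Agent.H868.Dl
end

-- part: H810/Dl/RowB
section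
/-!
# The row of the Baby Monster of `FactDl` (helper810, task 2520)

* `p = 2` : derived length at most 6 (`2 ^ 41`), the characters of degrees `9458750`, `4275362520`, `9287037474` and the
  three characters of the block `b_block`;
* `p = 3` : derived length at most 4 (`3 ^ 13`), degrees `4371`, `96255`, `4275362520`, `9287037474`;
* `p = 5` : derived length at most 3 (`5 ^ 6`), degrees `96255`, `9458750`, `4275362520`.
-/

set_option autoImplicit false

open Cfsg

namespace Cfsg.Agent.H810.Dl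

open Cfsg.Agent.Blocks.LocalRing Cfsg.Agent.Blocks
open Cfsg.Agent.H454.DlCrit Cfsg.Agent.H246.Dl Cfsg.Agent.H680.Dl Cfsg.Agent.H759.Dl
open Cfsg.Agent.H652.Four Cfsg.Agent.H648.Loc Cfsg.Agent.H995.IMB

universe u

/-- The characters of the scheme of degree `d`. -/
theorem deg_finset {S : Type u} [Group S] (h : Cfsg.Spor.IsoB S) {d : ℕ} (hd : d ∈ ds) :
    ∃ χ : S → ℂ, IsIrrCharacter S χ ∧ χ 1 = d := by
  obtain ⟨χ, h1, -⟩ := deg_b h hd
  exact ⟨χ, χ.2, h1⟩

theorem deg_small {S : Type u} [Group S] (h : Cfsg.Spor.IsoB S) :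
    ∃ χ : S → ℂ, IsIrrCharacter S χ ∧ χ 1 = (4371 : ℕ) := by
  obtain ⟨e⟩ := h
  obtain ⟨χ, h1, h2, -⟩ := H723.Pair.BChar.exists_chi
  refine ⟨χ ∘ e.toMonoidHom, Cfsg.Agent.Characters.Core.isIrr_comp e.toMonoidHom e.surjective h1, ?_⟩
  show χ (e.toMonoidHom 1) = _
  rw [map_one, h2]

/-- Six characters of even degree. -/
theorem many_b_two : Many 2 Spor.BabyMonster 6 := by
  classical
  have hfin : Finite Spor.BabyMonster := CTwoTab.BInst.finite_B
  have hfinI : Finite (IrrCharacter Spor.BabyMonster) := Cfsg.Agent.Characters.Core.finite_irr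
  have hB0 : Cfsg.Spor.IsoB Spor.BabyMonster := ⟨MulEquiv.refl _⟩
  obtain ⟨⟨x, hx⟩, -, -⟩ := b_main
  have hf2 : Fact (Nat.Prime 2) := ⟨Nat.prime_two⟩
  obtain ⟨M, hM⟩ := Cfsg.Agent.Blocks.Knorr.exists_isPModular 2
  obtain ⟨B, hB3, hB, -⟩ := b_block hM hx
  have h4 : ∀ χ ∈ B, 4 ∣ charDegree (χ : Spor.BabyMonster → ℂ) := fun χ hχ => by
    have h1 : 2 ^ 2 ∣ (Subgroup.centralizer ({x} : Set Spor.BabyMonster)).index := by
      have := b_four hx
      norm_num
      exact this
    exact dvd_charDegree hM (hB χ hχ) h1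
  obtain ⟨χ₁, -, h₁⟩ := deg_b hB0 (d := 9458750) (by unfold ds; simp)
  obtain ⟨χ₂, -, h₂⟩ := deg_b hB0 (d := 4275362520) (by unfold ds; simp)
  obtain ⟨χ₃, -, h₃⟩ := deg_b hB0 (d := 9287037474) (by unfold ds; simp)
  have n1 : χ₁ ∉ B := fun h => by
    have := h4 _ h
    rw [h₁] at this
    norm_num at this
  have n3 : χ₃ ∉ B := fun h => by
    have := h4 _ h
    rw [h₃] at this
    norm_num at this
  have n2 : χ₂ ∉ B := fun h => by
    refine hB _ h (memLocalIdeal_of_zero hM (van (p := 13) (a := 1) (by norm_num) χ₂ ?_ ?_ ?_))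
    · rw [card_b]; norm_num
    · rw [h₂]; norm_num
    · rw [hx]
  have n12 : χ₁ ≠ χ₂ := fun h => by rw [h, h₂] at h₁; norm_num at h₁
  have n13 : χ₁ ≠ χ₃ := fun h => by rw [h, h₃] at h₁; norm_num at h₁
  have n23 : χ₂ ≠ χ₃ := fun h => by rw [h, h₃] at h₂; norm_num at h₂
  have hout : Nat.card (OutQ Spor.BabyMonster) ≤ 1 := (Cfsg.Agent.S2084.result).le
  refine many_of_set hout (insert χ₁ (insert χ₂ (insert χ₃ B))) ?_ ?_
  · intro χ hχ
    rcases hχ with rfl | rfl | rfl | h
    · rw [h₁]; norm_num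
    · rw [h₂]; norm_num
    · rw [h₃]; norm_num
    · exact Dvd.dvd.trans (by norm_num) (h4 χ h)
  · rw [Set.ncard_insert_of_notMem, Set.ncard_insert_of_notMem, Set.ncard_insert_of_notMem n3]
    · have : Nat.card B = B.ncard := rfl
      omega
    · rintro (h | h)
      · exact n23 h
      · exact n2 h
    · rintro (h | h | h)
      · exact n12 h
      · exact n13 h
      · exact n1 h

/-- **The row of the Baby Monster.** -/
theorem row_B (I : H671.H5.FactIM.{u}) : RowF.{u} (fun S => Spor.IsoB S) := by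
  intro S _ _ _ h p hp hd
  have hfp : Fact p.Prime := ⟨hp⟩
  have hcard : Nat.card S = 4154781481226426191177580544000000 := card_of h
  have hc : ¬ IsMulCommutative S := by
    intro hcc
    let _ : CommGroup S := { (inferInstance : Group S) with mul_comm := fun a b => hcc.is_comm.comm a b }
    have hpr : (Nat.card S).Prime := IsSimpleGroup.prime_card
    rw [hcard] at hpr
    norm_num at hpr
  have hmem : p ∈ ps := mem_ps hp (by rw [← hcard]; exact hd)
  unfold ps at hmem
  simp only [List.mem_cons, List.not_mem_nil, or_false] at hmem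
  rcases hmem with rfl | rfl | rfl | rfl | rfl | rfl | rfl | rfl | rfl | rfl | rfl
  · have hdl : DlLe 2 6 S := (dlLe_of_card' (a := 41) (by rw [hcard]; norm_num)).2.2.2 (by norm_num)
    obtain ⟨e⟩ := h
    exact ⟨6, hdl, many_b_two.of_equiv e⟩
  · have hdl : DlLe 3 4 S := (dlLe_of_card' (a := 13) (by rw [hcard]; norm_num)).2.1 (by norm_num)
    refine ⟨4, hdl, ?_⟩
    have h1 := Many.of_finset (p := 3) (S := S) (D := {4371, 96255, 4275362520, 9287037474}) ?_
    · exact h1
    · intro d hd'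
      simp only [Finset.mem_insert, Finset.mem_singleton] at hd'
      rcases hd' with rfl | rfl | rfl | rfl
      · exact ⟨by norm_num, deg_small h⟩
      · exact ⟨by norm_num, deg_finset h (by unfold ds; simp)⟩
      · exact ⟨by norm_num, deg_finset h (by unfold ds; simp)⟩
      · exact ⟨by norm_num, deg_finset h (by unfold ds; simp)⟩
  · have hdl : DlLe 5 3 S := (dlLe_of_card' (a := 6) (by rw [hcard]; norm_num)).1 (by norm_num)
    refine ⟨3, hdl, ?_⟩
    have h1 := Many.of_finset (p := 5) (S := S) (D := {96255, 9458750, 4275362520}) ?_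
    · exact h1
    · intro d hd'
      simp only [Finset.mem_insert, Finset.mem_singleton] at hd'
      rcases hd' with rfl | rfl | rfl
      · exact ⟨by norm_num, deg_finset h (by unfold ds; simp)⟩
      · exact ⟨by norm_num, deg_finset h (by unfold ds; simp)⟩
      · exact ⟨by norm_num, deg_finset h (by unfold ds; simp)⟩
  all_goals exact row_of_card I hc (by norm_num) hd (by rw [hcard]; norm_num)

end Cfsg.Agent.H810.Dl
end

-- part: H246/Dl/Fact
section
/-!
# The derived length of a Sylow subgroup of a simple group (S4769, S4767): all the rows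

The rows were proved by helper152, 941, 64, 195, 352, 567, 70, 669, 868, 633, 153, 810 (and 71, 158, 628, 321, 279, 362,
519, 674, 755, 454, 680, 211, 705 for the tools), the frame `Missing` by helper759.
-/

set_option autoImplicit false

open Cfsg

namespace Cfsg.Agent.H246.Dl.Fact

open Cfsg.Agent.H246.Dl Cfsg.Agent.H596.OneFacts Cfsg.Agent.H759.Dl

universe u

theorem missingSpor (T : FactTwo.{u}) (I : H671.H5.FactIM.{u}) : MissingSpor.{u} where
  m11 := fun _ _ _ _ h _ hp hd => H567.Dl.row_m11 h hp hd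
  m12 := fun _ _ _ _ h _ hp hd => H567.Dl.row_m12 h hp hd
  m22 := fun _ _ _ _ h _ hp hd => H567.Dl.row_m22 h hp hd
  m23 := fun _ _ _ _ h _ hp hd => H567.Dl.row_m23 h hp hd
  m24 := fun _ _ _ _ h _ hp hd => H567.Dl.row_m24 h hp hd
  j1 := H70.Dl.Janko.row_j1 T I
  j2 := H70.Dl.JTwo.row_j2 T I
  j3 := H70.Dl.Janko.row_j3 T I
  j4 := fun S _ _ _ h _ hp hd => H669.Dl.J4.row_j4_full S h hp hd
  co1 := H633.Dl.Co1.row_co1
  co2 := H633.Dl.Co2.row_co2
  co3 := H633.Dl.Co3.row_co3
  mcl := H70.Dl.McL.row_mcl T I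
  hs := H70.Dl.HS.row_hs T I
  suz := H70.Dl.Suz.row_suz T I
  he := H868.Dl.row_he T I
  ru := H868.Dl.row_ru T I
  on := H868.Dl.row_on T I
  ly := H868.Dl.row_ly T I
  fi22 := fun _ _ _ _ h _ hp hd => H153.Dl.row_fi22 h hp hd
  fi23 := fun _ _ _ _ h _ hp hd => H153.Dl.row_fi23 h hp hd
  fi24 := fun _ _ _ _ h _ hp hd => H153.Dl.row_fi24 h hp hd
  hn := fun S _ _ _ h _ hp hd => H669.Dl.HN.row_hn S h hp hd
  th := fun S _ _ _ h _ hp hd => H669.Dl.Th.row_th S h hp hd
  b := H810.Dl.row_B I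
  m := H810.Dl.row_M T I

theorem row_f4_two : H941.Dl.Fields.RowFFourTwo.{u} := by
  intro S _ _ _ K _ _ hK e
  obtain ⟨e⟩ := e
  exact H195.Dl.F4Two.row_two (by rw [Nat.card_eq_fintype_card, hK]) e

theorem row_e6_three : H941.Dl.Fields.RowESixThree.{u} := by
  intro S _ _ _ K _ _ hK e
  obtain ⟨e⟩ := e
  have h1 : 3 ∣ Fintype.card K ^ 2 - 1 := by
    have h2 : Fintype.card K ^ 2 - 1 = (Fintype.card K + 1) * (Fintype.card K - 1) := by
      have := Nat.sq_sub_sq (Fintype.card K) 1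
      rwa [one_pow] at this
    rw [h2]
    exact hK.mul_right _
  have h3 : ¬ 3 ∣ Fintype.card K := by omega
  exact Row.of_le ((H158.DlRows.dl_E6 e Nat.prime_three h3).2.1 rfl)
    (H64.Dl.many_E6_cross Nat.prime_three h1 e) le_rfl

theorem missing (T : FactTwo.{u}) (I : H671.H5.FactIM.{u}) : Missing.{u} where
  alt := fun _ _ _ _ h _ hp hd => H352.Dl.row_alt' h hp hd
  l2 := H152.Dl.f_l2 T I
  ln := H152.Dl.f_ln
  psp := H152.Dl.f_psp T I
  psu := H152.Dl.f_psu T I
  odd := H152.Dl.f_odd T I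
  plus := H152.Dl.f_plus T I
  minus := H152.Dl.f_minus T I
  g2 := H941.Dl.Fields.f_g2 T I
  f4 := H941.Dl.Fields.f_f4 T I row_f4_two
  e6 := H941.Dl.Fields.f_e6 T I row_e6_three
  e7 := H941.Dl.Fields.f_e7 T I
  e8 := H941.Dl.Fields.f_e8 T I
  te6 := H941.Dl.Fields.f_te6 T I
  td4 := H941.Dl.Fields.f_td4 T I
  sz := H152.Dl.f_sz T I
  ree := H152.Dl.f_ree T I
  tf4 := H941.Dl.Fields.f_tf4 T I fun _ _ _ _ h => H195.Dl.TwF.row_two h
  tits := H195.Dl.Tits.row_tits T I
  spor := spor_of (missingSpor T I)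

/-- **`FactDl` from `FactTwo` and the Itô-Michler fact.** -/
theorem factDl_of (T : FactTwo.{u}) (I : H671.H5.FactIM.{u})
    (hK : ∀ (X : Type u) [Group X] [Finite X] [IsSimpleGroup X], IsKnownSimple' X) : H596.DerLen.FactDl.{u} :=
  factDl_of_missing (missing T I) hK

end Cfsg.Agent.H246.Dl.Fact
end

private theorem dce_312a8f164566 : _root_.True := by
  try have : _root_.True := by simp only [_root_.Cfsg.Agent.H70.Dl.McLTwo.testAll.eq_1]
  try have : _root_.True := by simp only [_root_.Cfsg.Agent.H70.Dl.HS.fxn.eq_1]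
  try have : _root_.True := by simp only [_root_.Cfsg.Agent.H70.Dl.HS.F8.eq_1]
  try have : _root_.True := by simp only [_root_.Cfsg.Agent.H70.Dl.McLTwo.test.eq_1]
  exact _root_.True.intro
end

-- part: H246/Dl/FactAll
section
set_option linter.all false

/-!
# `FactDl` and the Itô-Michler fact for all finite simple groups, unconditionally

This module imports the classification `S0000`.
-/

set_option autoImplicit false

open Cfsg

namespace Cfsg.Agent.H246.Dl.FactAll

universe u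

theorem factIM : H671.H5.FactIM.{u} := H33.imFact.{u} fun _ _ _ _ => S0000.result

theorem factDl : H596.DerLen.FactDl.{u} :=
  H246.Dl.Fact.factDl_of H53.Two.factTwo factIM fun _ _ _ _ => S0000.result

end Cfsg.Agent.H246.Dl.FactAll
end
end
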